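import Cfsg.Agent.H538.Ore.Small
import Cfsg.Agent.H134.Sq.Base_m3
import Cfsg.Agent.S1163
import Cfsg.Agent.S1069
import Cfsg.Agent.H295.War.Mul_m3
import Cfsg.Agent.UGT.U2.FOne.TwESixEnd
import Cfsg.Agent.Nodes.ChevChart
import Cfsg.Agent.S1067
import Cfsg.Agent.S1071
import Cfsg.Agent.H144.Decomp
import Cfsg.Agent.H144.AH.Base
import Cfsg.Agent.LieClassical.SympCount
import Cfsg.Agent.FastGrp
import Cfsg.Agent.Prune
set_option linter.all false

section
prune_inst 0x7fffebf9bbb879dfdfff7e75a698cdfc3b971fffa4dff94bbfe021efabdf230209c1638909e000fc0ec3c21410a87843f97eceffe26bd87ffffd1df41ffbee4fe5f7b50951d488340fbc0ff603f0678e7f3ffffffffcffffffffffffffffffbeffbfffffffff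

-- part: H874/War/TwD4
section
prune_inst 0x1402044486202000000a584112020040c0005b000200401cd00004008088302c0824140040030020248228100410020031000d0024000000e2004000000010000a8000030500c00000008000184000000000000300000000000000000000004000000000
set_option linter.all false
open scoped Cfsg.Agent.FastGrp

-- part: H874/War/Rk1
section
/-!
# The word `x ^ k * y ^ l` on `Sz(q)` and `²G₂(q)` (S2453, L8; helper874)
-/

set_option autoImplicit false

namespace Cfsg.Agent.H874.War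

open Cfsg.Agent.H130.War Cfsg.Agent.H134.War

universe u

/-- from a class covering the group -/
theorem SS.of_cover {S : Type*} [Group S] {p e : ℕ} {t : S} (ht : (orderOf t).Coprime p)
    (h : ∀ g : S, g ≠ 1 → ∃ u v : S, g = (u * t ^ e * u⁻¹) * (v * t ^ e * v⁻¹)) : SS p e S := by
  intro g
  by_cases hg : g = 1
  · exact ⟨t, t⁻¹, by rw [hg, inv_pow, mul_inv_cancel], ht, by rwa [orderOf_inv]⟩
  · obtain ⟨u, v, huv⟩ := h g hg
    refine ⟨u * t * u⁻¹, v * t * v⁻¹, ?_, ?_, ?_⟩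
    · rw [huv, conj_pow, conj_pow]
    · have : orderOf (u * t * u⁻¹) = orderOf t := by
        have := orderOf_injective (MulAut.conj u).toMonoidHom (MulAut.conj u).injective t
        simpa using this
      rwa [this]
    · have : orderOf (v * t * v⁻¹) = orderOf t := by
        have := orderOf_injective (MulAut.conj v).toMonoidHom (MulAut.conj v).injective t
        simpa using this
      rwa [this]

/-- the numbers: `q ^ c ≥ m ^ (8 m²)`, `3 c < 8 m²` give `m² + 1 < q` -/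
theorem num {m q c : ℕ} (hm : 2 ≤ m) (hc : 3 * c < 8 * m ^ 2) (h : m ^ (8 * m ^ 2) ≤ q ^ c) : m ^ 2 + 1 < q := by
  by_contra hcon
  push Not at hcon
  have h1 : m ^ 2 + 1 ≤ m ^ 3 := by nlinarith only [hm, Nat.pow_le_pow_left hm 2]
  have h2 : q ^ c ≤ (m ^ 3) ^ c := Nat.pow_le_pow_left (hcon.trans h1) c
  rw [← pow_mul] at h2
  have h3 : m ^ (3 * c) < m ^ (8 * m ^ 2) := Nat.pow_lt_pow_right (by omega) hc
  omega

theorem orderOf_pow_gt {S : Type*} [Group S] {t : S} {N e : ℕ} (ht : orderOf t = N) (he : 0 < e) (h : 2 * e < N) :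
    2 < orderOf (t ^ e) := by
  rw [orderOf_pow' t he.ne', ht]
  have h1 : N.gcd e ≤ e := Nat.gcd_le_right _ he
  have h2 : 0 < N.gcd e := Nat.gcd_pos_of_pos_right _ he
  have h3 : N.gcd e * (N / N.gcd e) = N := Nat.mul_div_cancel' (Nat.gcd_dvd_left _ _)
  by_contra hcon
  push Not at hcon
  have : N.gcd e * (N / N.gcd e) ≤ e * 2 := Nat.mul_le_mul h1 hcon
  omega

/-- Suzuki groups -/
theorem ss_sz {F : Type*} [Field F] [Fintype F] (m : ℕ) (hm : 1 ≤ m) (hF : Fintype.card F = 2 ^ (2 * m + 1)) {e : ℕ}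
    (he0 : 0 < e) (he : 2 * e < 2 ^ (2 * m + 1) - 1) : SS 2 e ↥(Cfsg.Lie.Sz F (2 ^ (m + 1))) := by
  have H := Cfsg.Agent.LieRecognition.SzMatrix.good hF
  obtain ⟨g, hg⟩ := IsCyclic.exists_generator (α := Fˣ)
  have ho := orderOf_eq_card_of_forall_mem_zpowers hg
  rw [Nat.card_units, Nat.card_eq_fintype_card, hF] at ho
  have hinj : Function.Injective (MonoidHom.mk' H.d (fun a b => (H.d_mul a b).symm)) := fun a b hab => H.d_inj hab
  have ho' : orderOf (H.d g) = 2 ^ (2 * m + 1) - 1 := (orderOf_injective _ hinj g).trans ho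
  refine SS.of_cover (t := H.d g) ?_ fun x hx => Cfsg.Agent.S2457.result m hm hF _ (orderOf_pow_gt ho' he0 he) x hx
  rw [ho']
  refine Nat.Coprime.symm ((Nat.Prime.coprime_iff_not_dvd Nat.prime_two).2 ?_)
  have : 2 ^ (2 * m + 1) = 2 * 2 ^ (2 * m) := by ring
  have := Nat.one_le_two_pow (n := 2 * m)
  omega

/-- small Ree groups -/
theorem ss_ree {K : Type*} [Field K] [Fintype K] (m : ℕ) (hm : 1 ≤ m) (hK : Fintype.card K = 3 ^ (2 * m + 1)) {e : ℕ}
    (he0 : 0 < e) (he : 2 * e < 3 ^ (2 * m + 1) - 1) : SS 3 e ↥(Cfsg.Lie.twistedG2 K (3 ^ m)) := by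
  have D := Cfsg.Agent.LieRecognition.ReeFinal.data hK
  obtain ⟨g, hg⟩ := IsCyclic.exists_generator (α := Kˣ)
  have ho := orderOf_eq_card_of_forall_mem_zpowers hg
  rw [Nat.card_units, Nat.card_eq_fintype_card, hK] at ho
  let φ := MonoidHom.mk' (Cfsg.Agent.LieRecognition.ReeData.h hK) D.h_mul
  have hinj : Function.Injective φ := fun a b hab => Cfsg.Agent.LieRecognition.ReeData.h_injective hK hab
  have ho' : orderOf (Cfsg.Agent.LieRecognition.ReeData.h hK g) = 3 ^ (2 * m + 1) - 1 :=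
    (orderOf_injective φ hinj g).trans ho
  have h3 : ¬ 3 ∣ 3 ^ (2 * m + 1) - 1 := by
    have : 3 ^ (2 * m + 1) = 3 * 3 ^ (2 * m) := by ring
    have := Nat.one_le_pow (2 * m) 3 (by norm_num)
    omega
  refine SS.of_cover (t := Cfsg.Agent.LieRecognition.ReeData.h hK g) ?_ fun x hx =>
    Cfsg.Agent.S2458.result m hm hK _ (orderOf_pow_gt ho' he0 he) ?_ x hx
  · rw [ho']
    exact Nat.Coprime.symm ((Nat.Prime.coprime_iff_not_dvd Nat.prime_three).2 h3)
  · intro h4
    have h5 := h4.trans (orderOf_pow_dvd e)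
    rw [ho'] at h5
    exact h3 h5

theorem ee_pos (p : ℕ) {k l : ℕ} (hk : 2 ≤ k) (hl : 2 ≤ l) : 0 < ee p k l :=
  Nat.ordCompl_pos p (Nat.lcm_pos (by omega) (by omega)).ne'

/-- **`Sz(q)`** -/
theorem kl_isoSuzuki {G : Type*} [Group G] [Finite G] (h : Cfsg.Lie.IsoSuzuki G) (k l : ℕ) (hk : 2 ≤ k) (hl : 2 ≤ l)
    (hg : ¬ k.Coprime l) (hbig : (max k l) ^ (8 * (max k l) ^ 2) ≤ Nat.card G) : KL G k l := by
  obtain ⟨F, _, _, m, hm, hF, ⟨f⟩⟩ := h
  have hcard := (Cfsg.Agent.S1163.result hm hF).1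
  rw [← Nat.card_congr f.toEquiv] at hcard
  obtain ⟨q, hq⟩ : ∃ q, q = 2 ^ (2 * m + 1) := ⟨_, rfl⟩
  rw [← hq] at hcard
  have hq8 : 2 ^ 3 ≤ q := by rw [hq]; exact Nat.pow_le_pow_right (by norm_num) (by omega)
  have h1 : Nat.card G ≤ q ^ 5 := by
    rw [hcard]
    obtain ⟨r, rfl⟩ : ∃ r, q = r + 1 := ⟨q - 1, by omega⟩
    rw [Nat.add_sub_cancel]
    have : (r + 1) ^ 5 = (r + 1) ^ 2 * r * ((r + 1) ^ 2 + 1) + (r + 1) ^ 2 * ((r + 1) ^ 2 - r) := by
      zify [show r ≤ (r + 1) ^ 2 by nlinarith only []]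
      ring
    omega
  have hm2 : 2 ≤ max k l := le_trans hk (le_max_left _ _)
  have h2 := num (c := 5) hm2 (by linarith only [Nat.pow_le_pow_left hm2 2]) (hbig.trans h1)
  have h3 := ee_le (p := 2) (by omega : 1 ≤ k) hg
  exact (SS.congr f.symm (ss_sz m hm hF (ee_pos 2 hk hl) (by omega))).kl'

/-- **`²G₂(q)`** -/
theorem kl_isoRee {G : Type*} [Group G] [Finite G] (h : Cfsg.Lie.IsoRee G) (k l : ℕ) (hk : 2 ≤ k) (hl : 2 ≤ l)
    (hg : ¬ k.Coprime l) (hbig : (max k l) ^ (8 * (max k l) ^ 2) ≤ Nat.card G) : KL G k l := by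
  obtain ⟨K, _, _, m, hm, hK, ⟨f⟩⟩ := h
  have hcard := Cfsg.Agent.S1069.result hK
  rw [← Nat.card_congr f.toEquiv] at hcard
  obtain ⟨q, hq⟩ : ∃ q, q = 3 ^ (2 * m + 1) := ⟨_, rfl⟩
  rw [← hq] at hcard
  have hq8 : 3 ^ 3 ≤ q := by rw [hq]; exact Nat.pow_le_pow_right (by norm_num) (by omega)
  have h1 : Nat.card G ≤ q ^ 7 := by
    rw [hcard]
    obtain ⟨r, rfl⟩ : ∃ r, q = r + 1 := ⟨q - 1, by omega⟩
    rw [Nat.add_sub_cancel]
    have : (r + 1) ^ 7 = (r + 1) ^ 3 * r * ((r + 1) ^ 3 + 1) + (r + 1) ^ 3 * ((r + 1) ^ 3 - r) := by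
      zify [show r ≤ (r + 1) ^ 3 by nlinarith only [_root_.sq_nonneg (↑r + 1 : ℤ), _root_.Nat.cast_nonneg (α := ℤ) (r)]]
      ring
    omega
  have hm2 : 2 ≤ max k l := le_trans hk (le_max_left _ _)
  have h2 := num (c := 7) hm2 (by linarith only [Nat.pow_le_pow_left hm2 2]) (hbig.trans h1)
  have h3 := ee_le (p := 3) (by omega : 1 ≤ k) hg
  exact (SS.congr f.symm (ss_ree m hm hK (ee_pos 3 hk hl) (by omega))).kl'

end Cfsg.Agent.H874.War
end

-- part: H874/War/TwD4
section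
/-!
# The word `x ^ k * y ^ l` on `³D₄(q)` (S2453, L8; helper874)

* `nf_t` : the element `t c w` of the torus has no fixed points on the unipotent groups;
* `ss` : `SS p e` if `2 e < q - 1`; `pp`; `kl_isoTriality`.
-/

set_option autoImplicit false
set_option linter.unusedSectionVars false

namespace Cfsg.Agent.H874.War.TwD4

open CoxeterSystem Cfsg.Agent.ChevalleyStructure.CoxeterGeom Cfsg.Agent.Tits.Roots Cfsg.Agent.Tits.Core
  Cfsg.Agent.Nodes Cfsg.Agent.Nodes.Reps Cfsg.Agent.Nodes.BNOf Cfsg.Agent.Nodes.RGDLib Cfsg.Agent.Nodes.Bruhat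
  Cfsg.Agent.Nodes.OppDec Cfsg.Agent.Nodes.LeviDec Cfsg.Agent.Nodes.StabComb Cfsg.Agent.Nodes.KindChev
  Cfsg.Agent.Nodes.ChevCls
  Cfsg.Agent.OddHalf.NI.ModelChev
  Cfsg.Agent.H162.GaussDec Cfsg.Agent.H162.GaussLevi Cfsg.Agent.H162.GaussSL
  Cfsg.Agent.H928.Ore.Frame Cfsg.Agent.H928.Ore.Fix
open Cfsg.Lie Cfsg.Agent.ChevalleyStructure Cfsg.Agent.ChevalleyStructure.Elts
  Cfsg.Agent.ChevalleyStructure.NPerm
  Cfsg.Agent.ChevalleyStructure.CoxeterGeomTypes Cfsg.Agent.Nodes.RGDChev Cfsg.Agent.KFacts.RgdChevCoord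
open Cfsg.Agent.Nodes.RGDTwGen Cfsg.Agent.Nodes.RGDFold Cfsg.Agent.Nodes.RGDTwD4
open Cfsg.Agent.Nodes.RGDFoldSL (Fx mem_Fx)
open Cfsg.Agent.ChevalleyStructure.TwistedU Cfsg.Agent.ChevalleyStructure.TwistedFix
open Cfsg.Agent.Nodes.RGDTwCoord (hI wt hI_conj)
open Cfsg.Agent.Nodes.RGDTwNode.D4 (nodeOK eps_one rest)
open Cfsg.Agent.H130.War (SS PP)
open Cfsg.Agent.OddHalf.NI
open scoped MatrixGroups

universe u

/-! ### The inclusion in `D₄(q³)` -/

theorem genSubgroup_le_group {D : ChevalleyDatum} (hD : InList D) {F : Type*} [Field F] (S : Set (List (ℕ × F))) :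
    D.genSubgroup F S ≤ D.group F := by
  refine (Subgroup.closure_le _).2 ?_
  rintro g ⟨w, -, hg⟩
  rw [(Elts.eq_wordG_iff hD g w).2 hg]
  exact Elts.wordG_mem_group hD w

variable {K : Type u} [Field K]

/-- the inclusion -/
noncomputable def inc (K : Type u) [Field K] (q : ℕ) : ↥(twistedD4 K q) →* ↥(chevD4.group K) :=
  Subgroup.inclusion (genSubgroup_le_group RGDTwD4.hp.inList _)

theorem inc_injective (q : ℕ) : Function.Injective (inc K q) := Subgroup.inclusion_injective _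

theorem X_le {φ : K →+* K} {q : ℕ} {z : Fin 2 → ℤ} {H : Subgroup ↥(chevD4.group K)}
    (h : ∀ r < chevD4.nroots, V chevD4 J r = z → XX chevD4 4 K (vec chevD4 4 r) ≤ H) :
    X φ q z ≤ H.comap (inc K q) := by
  intro y hy
  have h1 : (y : GL chevD4.Idx K) ∈ rspan (xG (F := K) RGDTwD4.hp.inList) {k | k < chevD4.nroots ∧ V chevD4 J k = z} :=
    (Subgroup.mem_subgroupOf.1 hy).1
  have h2 : rspan (xG (F := K) RGDTwD4.hp.inList) {k | k < chevD4.nroots ∧ V chevD4 J k = z} ≤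
      H.map (chevD4.group K).subtype := by
    refine rspan_le _ fun r hr t => ?_
    refine ⟨xc RGDTwD4.hp (vec chevD4 4 r) t, h r hr.1 hr.2 ((mem_XX RGDTwD4.hp hr.1 _).2 ⟨_, rfl⟩), ?_⟩
    exact coe_xc RGDTwD4.hp hr.1 t
  obtain ⟨s, hs, e⟩ := h2 h1
  have e2 : s = inc K q y := Subtype.ext e
  rw [Subgroup.mem_comap, ← e2]
  exact hs

theorem tab0 : ∀ r < chevD4.nroots, (∀ k : Fin 2, 0 ≤ V chevD4 J r k) → (∃ k : Fin 2, 0 < V chevD4 J r k) →
    (∀ k : Fin 4, 0 ≤ vec chevD4 4 r k) ∧ ∃ k : Fin 4, 0 < vec chevD4 4 r k := by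
  have h : ∀ r : Fin 24, (∀ k : Fin 2, 0 ≤ V chevD4 J r k) → (∃ k : Fin 2, 0 < V chevD4 J r k) →
    (∀ k : Fin 4, 0 ≤ vec chevD4 4 r k) ∧ ∃ k : Fin 4, 0 < vec chevD4 4 r k := by decide +kernel
  exact fun r hr => h ⟨r, hr⟩

theorem tab0N : ∀ r < chevD4.nroots, (∀ k : Fin 2, V chevD4 J r k ≤ 0) → (∃ k : Fin 2, V chevD4 J r k < 0) →
    (∀ k : Fin 4, vec chevD4 4 r k ≤ 0) ∧ ∃ k : Fin 4, vec chevD4 4 r k < 0 := by
  have h : ∀ r : Fin 24, (∀ k : Fin 2, V chevD4 J r k ≤ 0) → (∃ k : Fin 2, V chevD4 J r k < 0) →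
    (∀ k : Fin 4, vec chevD4 4 r k ≤ 0) ∧ ∃ k : Fin 4, vec chevD4 4 r k < 0 := by decide +kernel
  exact fun r hr => h ⟨r, hr⟩

section

variable {W : Type*} [Group W] (cs : CoxeterSystem CoxeterMatrix.G₂ W)

theorem U_le (φ : K →+* K) (q : ℕ) : VJ cs RGDTwD4.isCartan (X φ q) ∅ ≤
    (VJ coxeterD4.toCoxeterSystem RGDTwD4.hp.isCartan (XX chevD4 4 K) ∅).comap (inc K q) := by
  refine RGD.Sup_le fun z hz => X_le fun r hr hrz => ?_
  obtain ⟨-, h0, k, -, hk0⟩ := hz
  obtain ⟨h1, k', h2⟩ := tab0 r hr (fun k => by rw [hrz]; exact h0 k) ⟨k, by rw [hrz]; exact hk0⟩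
  exact RGD.le_Sup ⟨isRoot_vec RGDTwD4.hp _ hr, fun k => h1 k, k', Set.notMem_empty _, h2⟩

theorem UN_le (φ : K →+* K) (q : ℕ) : VNJ cs RGDTwD4.isCartan (X φ q) ∅ ≤
    (VNJ coxeterD4.toCoxeterSystem RGDTwD4.hp.isCartan (XX chevD4 4 K) ∅).comap (inc K q) := by
  refine RGD.Sup_le fun z hz => X_le fun r hr hrz => ?_
  obtain ⟨-, h0, k, -, hk0⟩ := hz
  obtain ⟨h1, k', h2⟩ := tab0N r hr (fun k => by
      have := h0 k
      rw [hrz]
      simpa using this)
    ⟨k, by rw [hrz]; simpa using hk0⟩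
  refine RGD.le_Sup ⟨(isRoot_vec RGDTwD4.hp _ hr).neg, fun k => ?_, k', Set.notMem_empty _, ?_⟩
  · have := h1 k
    simpa using this
  · simpa using h2

end

/-! ### The element of the torus -/

/-- the exponents of the scalars: `cartan 1`, and the others -/
theorem tabE : ∀ r < chevD4.nroots, ∃ M : ℤ,
    2 * chevD4.cartan 1 r + chevD4.cartan 0 r + chevD4.cartan 2 r + chevD4.cartan 3 r = M ∧
    ((chevD4.cartan 0 r - chevD4.cartan 3 r = 0 ∧ chevD4.cartan 2 r - chevD4.cartan 3 r = 0 ∧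
        (M = 1 ∨ M = -1 ∨ M = 2 ∨ M = -2)) ∨
      (chevD4.cartan 0 r - chevD4.cartan 3 r = 2 ∧ chevD4.cartan 2 r - chevD4.cartan 3 r = 0) ∨
      (chevD4.cartan 0 r - chevD4.cartan 3 r = -2 ∧ chevD4.cartan 2 r - chevD4.cartan 3 r = 0) ∨
      (chevD4.cartan 0 r - chevD4.cartan 3 r = 0 ∧ chevD4.cartan 2 r - chevD4.cartan 3 r = 2) ∨
      (chevD4.cartan 0 r - chevD4.cartan 3 r = 0 ∧ chevD4.cartan 2 r - chevD4.cartan 3 r = -2) ∨
      (chevD4.cartan 0 r - chevD4.cartan 3 r = 2 ∧ chevD4.cartan 2 r - chevD4.cartan 3 r = 2) ∨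
      (chevD4.cartan 0 r - chevD4.cartan 3 r = -2 ∧ chevD4.cartan 2 r - chevD4.cartan 3 r = -2)) := by
  have h : ∀ r : Fin 24, let M := 2 * chevD4.cartan 1 r + chevD4.cartan 0 r + chevD4.cartan 2 r + chevD4.cartan 3 r
    ((chevD4.cartan 0 r - chevD4.cartan 3 r = 0 ∧ chevD4.cartan 2 r - chevD4.cartan 3 r = 0 ∧
        (M = 1 ∨ M = -1 ∨ M = 2 ∨ M = -2)) ∨
      (chevD4.cartan 0 r - chevD4.cartan 3 r = 2 ∧ chevD4.cartan 2 r - chevD4.cartan 3 r = 0) ∨
      (chevD4.cartan 0 r - chevD4.cartan 3 r = -2 ∧ chevD4.cartan 2 r - chevD4.cartan 3 r = 0) ∨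
      (chevD4.cartan 0 r - chevD4.cartan 3 r = 0 ∧ chevD4.cartan 2 r - chevD4.cartan 3 r = 2) ∨
      (chevD4.cartan 0 r - chevD4.cartan 3 r = 0 ∧ chevD4.cartan 2 r - chevD4.cartan 3 r = -2) ∨
      (chevD4.cartan 0 r - chevD4.cartan 3 r = 2 ∧ chevD4.cartan 2 r - chevD4.cartan 3 r = 2) ∨
      (chevD4.cartan 0 r - chevD4.cartan 3 r = -2 ∧ chevD4.cartan 2 r - chevD4.cartan 3 r = -2)) := by decide +kernel
  exact fun r hr => ⟨_, rfl, h ⟨r, hr⟩⟩

section

variable {φ : K →+* K}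

/-- the scalar of the root `r` is not `1` -/
theorem scal_ne {c w : K} (hc0 : c ≠ 0) (hw0 : w ≠ 0) (hc : φ c = c) (hc2 : c ^ 2 ≠ 1)
    (hw : w * (φ w * φ (φ w)) = 1) (hw2 : φ (w ^ 2) ≠ w ^ 2) {r : ℕ} (hr : r < chevD4.nroots) :
    wt chevD4 φ (J 0) r (c ^ 2) * wt chevD4 φ (J 1) r (c * w) ≠ 1 := by
  have hφ0 : φ w ≠ 0 := (map_ne_zero φ).2 hw0
  have hφ00 : φ (φ w) ≠ 0 := (map_ne_zero φ).2 hφ0
  have e3 : φ (φ w) = (w * φ w)⁻¹ := by
    apply eq_inv_of_mul_eq_one_left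
    rw [← hw]
    ring
  have hval : wt chevD4 φ (J 0) r (c ^ 2) * wt chevD4 φ (J 1) r (c * w) =
      c ^ (2 * chevD4.cartan 1 r + chevD4.cartan 0 r + chevD4.cartan 2 r + chevD4.cartan 3 r) *
        (w ^ (chevD4.cartan 0 r - chevD4.cartan 3 r) * (φ w) ^ (chevD4.cartan 2 r - chevD4.cartan 3 r)) := by
    change ((c ^ 2) ^ chevD4.cartan 1 r * 1) * ((c * w) ^ chevD4.cartan 0 r * ((φ (c * w)) ^ chevD4.cartan 2 r *
      ((φ (φ (c * w))) ^ chevD4.cartan 3 r * 1))) = _
    rw [map_mul, map_mul, hc, hc, e3, mul_zpow, mul_zpow, mul_zpow, inv_zpow, mul_zpow, zpow_sub₀ hw0, zpow_sub₀ hφ0,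
      zpow_add₀ hc0, zpow_add₀ hc0, zpow_add₀ hc0, zpow_mul, mul_inv]
    simp only [div_eq_mul_inv, zpow_ofNat]
    ring
  rw [hval]
  obtain ⟨M, hM, h⟩ := tabE r hr
  rw [hM]
  have hcM : φ (c ^ M) = c ^ M := by rw [map_zpow₀, hc]
  have hcM0 : c ^ M ≠ 0 := zpow_ne_zero _ hc0
  have hinj : ∀ {x y : K}, φ x = φ y → x = y := fun h => φ.injective h
  -- a value fixed by `φ`
  have key : ∀ {v : K}, c ^ M * v = 1 → φ v = v := by
    intro v hv
    have h1 := congrArg φ hv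
    rw [map_mul, map_one, hcM, ← hv] at h1
    exact mul_left_cancel₀ hcM0 h1
  rcases h with ⟨h1, h2, h3⟩ | ⟨h1, h2⟩ | ⟨h1, h2⟩ | ⟨h1, h2⟩ | ⟨h1, h2⟩ | ⟨h1, h2⟩ | ⟨h1, h2⟩
  · rw [h1, h2, zpow_zero, zpow_zero, mul_one, mul_one]
    intro h4
    apply hc2
    rcases h3 with h3 | h3 | h3 | h3
    · rw [h3, zpow_one] at h4
      rw [h4, one_pow]
    · rw [h3, zpow_neg_one, inv_eq_one] at h4
      rw [h4, one_pow]
    · rw [h3] at h4
      exact_mod_cast h4
    · rw [h3, zpow_neg, inv_eq_one] at h4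
      exact_mod_cast h4
  all_goals
    rw [h1, h2]
    intro h4
    have h5 := key h4
    clear h4
  · rw [zpow_zero, mul_one] at h5
    exact hw2 (by exact_mod_cast h5)
  · rw [zpow_zero, mul_one, zpow_neg, map_inv₀, inv_inj] at h5
    exact hw2 (by exact_mod_cast h5)
  · rw [zpow_zero, one_mul] at h5
    have h6 : φ (φ (w ^ 2)) = φ (w ^ 2) := by
      rw [map_pow]
      exact_mod_cast h5
    exact hw2 (hinj h6)
  · rw [zpow_zero, one_mul, zpow_neg, map_inv₀, inv_inj] at h5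
    have h6 : φ (φ (w ^ 2)) = φ (w ^ 2) := by
      rw [map_pow]
      exact_mod_cast h5
    exact hw2 (hinj h6)
  · have h6 : φ (φ (φ (w ^ 2))) = φ (φ (w ^ 2)) := by
      rw [map_pow, map_pow, e3, inv_pow, map_inv₀, inv_inj, mul_pow]
      exact_mod_cast h5
    exact hw2 (hinj (hinj h6))
  · have h6 : φ (φ (φ (w ^ 2))) = φ (φ (w ^ 2)) := by
      rw [zpow_neg, zpow_neg, ← mul_inv, map_inv₀, inv_inj] at h5
      rw [map_pow, map_pow, e3, inv_pow, map_inv₀, inv_inj, mul_pow]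
      exact_mod_cast h5
    exact hw2 (hinj (hinj h6))

end

section

variable [Fintype K] {φ : K →+* K} {q : ℕ} (hK : Fintype.card K = q ^ 3) (hφ : ∀ x, φ x = x ^ q)

include hφ in
theorem hf (i : Fin 2) : ∀ s ∈ Cfsg.Agent.Nodes.RGDTwNode.D4.rep i :: rest i, ∀ t : K,
    ((eps s : ℤ) : K) * φ t = φ t := fun s hs t => by
  rw [eps_one i s hs, Int.cast_one, one_mul]

/-- the homomorphisms of the nodes -/
noncomputable def P (i : Fin 2) : SL(2, Fx φ ((rest i).length + 1)) →* ↥(twistedD4 K q) :=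
  Cfsg.Agent.Nodes.RGDFoldSL.Phi (foldGrp hφ (D4Fixed.twisted_le_fix hK hφ)) (nodeOK i) (hf hφ i)

theorem coordP : Mult.Coord (X φ q) (fun i => Fx φ ((rest i).length + 1)) (P hK hφ) := by
  obtain ⟨p, hp'⟩ := CharP.exists K
  have : Fact p.Prime := ⟨CharP.char_is_prime K p⟩
  exact ModelTw.coord (foldGrp hφ (D4Fixed.twisted_le_fix hK hφ)) nodeOK (hf hφ)
    CoxeterMatrix.G₂.toCoxeterSystem isCartan foldData p

/-- the element of the torus -/
noncomputable def tt (a : (Fx φ ((rest 0).length + 1))ˣ) (b : (Fx φ ((rest 1).length + 1))ˣ) : ↥(twistedD4 K q) :=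
  P hK hφ 0 (Mult.dg a) * P hK hφ 1 (Mult.dg b)

theorem tt_mem (a : (Fx φ ((rest 0).length + 1))ˣ) (b : (Fx φ ((rest 1).length + 1))ˣ) : tt hK hφ a b ∈ T K q :=
  mul_mem (ModelTw.Phi_dg_mem (foldGrp hφ (D4Fixed.twisted_le_fix hK hφ)) nodeOK (hf hφ) 0 a)
    (ModelTw.Phi_dg_mem (foldGrp hφ (D4Fixed.twisted_le_fix hK hφ)) nodeOK (hf hφ) 1 b)

theorem tt_pow (a : (Fx φ ((rest 0).length + 1))ˣ) (b : (Fx φ ((rest 1).length + 1))ˣ) (e : ℕ) :
    tt hK hφ a b ^ e = tt hK hφ (a ^ e) (b ^ e) := by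
  have h1 : P hK hφ 0 (Mult.dg a) ∈ T K q :=
    ModelTw.Phi_dg_mem (foldGrp hφ (D4Fixed.twisted_le_fix hK hφ)) nodeOK (hf hφ) 0 a
  have h2 : P hK hφ 1 (Mult.dg b) ∈ T K q :=
    ModelTw.Phi_dg_mem (foldGrp hφ (D4Fixed.twisted_le_fix hK hφ)) nodeOK (hf hφ) 1 b
  have h3 : Commute (P hK hφ 0 (Mult.dg a)) (P hK hφ 1 (Mult.dg b)) :=
    congrArg Subtype.val (ModelTw.comm_TG (hp := RGDTwD4.hp) (⟨_, h1⟩ : ↥(T K q)) ⟨_, h2⟩)
  have h4 : ∀ {F : Type u} [Field F] (x : Fˣ), (Mult.dg x : SL(2, F)) ^ e = Mult.dg (x ^ e) := fun x =>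
    (map_pow Mult.dgHom x e).symm
  unfold tt
  rw [h3.mul_pow, ← map_pow, ← map_pow, h4, h4]

theorem conj_tt (a : (Fx φ ((rest 0).length + 1))ˣ) (b : (Fx φ ((rest 1).length + 1))ˣ) {r : ℕ}
    (hr : r < chevD4.nroots) (u : K) :
    inc K q (tt hK hφ a b) * xc RGDTwD4.hp (vec chevD4 4 r) u * (inc K q (tt hK hφ a b))⁻¹ =
      xc RGDTwD4.hp (vec chevD4 4 r) (wt chevD4 φ (J 0) r ((a : Fx φ ((rest 0).length + 1)) : K) *
        wt chevD4 φ (J 1) r ((b : Fx φ ((rest 1).length + 1)) : K) * u) := by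
  have ha : ((a : Fx φ ((rest 0).length + 1)) : K) ≠ 0 := fun h => a.ne_zero (Subtype.ext h)
  have hb : ((b : Fx φ ((rest 1).length + 1)) : K) ≠ 0 := fun h => b.ne_zero (Subtype.ext h)
  have e1 : ((inc K q (tt hK hφ a b) : ↥(chevD4.group K)) : GL chevD4.Idx K) =
      hI RGDTwD4.hp φ (J 0) ((a : Fx φ ((rest 0).length + 1)) : K) *
        hI RGDTwD4.hp φ (J 1) ((b : Fx φ ((rest 1).length + 1)) : K) := by
    have h1 := ModelTw.coe_Phi_dg (foldGrp hφ (D4Fixed.twisted_le_fix hK hφ)) nodeOK (hf hφ) 0 a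
    have h2 := ModelTw.coe_Phi_dg (foldGrp hφ (D4Fixed.twisted_le_fix hK hφ)) nodeOK (hf hφ) 1 b
    rw [← h1, ← h2]
    rfl
  apply Subtype.ext
  rw [Subgroup.coe_mul, Subgroup.coe_mul, Subgroup.coe_inv, coe_xc RGDTwD4.hp hr, coe_xc RGDTwD4.hp hr, e1]
  have e2 := hI_conj (hp := RGDTwD4.hp) (φ := φ) (J 1) hr hb u
  have e3 := hI_conj (hp := RGDTwD4.hp) (φ := φ) (J 0) hr ha
    (wt chevD4 φ (J 1) r ((b : Fx φ ((rest 1).length + 1)) : K) * u)
  rw [← e2] at e3
  rw [mul_assoc (wt chevD4 φ (J 0) r _), ← e3]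
  group

/-- no fixed points -/
theorem nf_t {W : Type*} [Group W] (cs : CoxeterSystem CoxeterMatrix.G₂ W) {c w : K} (hc0 : c ≠ 0) (hw0 : w ≠ 0)
    (hc : φ c = c) (hw : w * (φ w * φ (φ w)) = 1)
    {a : (Fx φ ((rest 0).length + 1))ˣ} {b : (Fx φ ((rest 1).length + 1))ˣ}
    (ha : ((a : Fx φ ((rest 0).length + 1)) : K) = c ^ 2) (hb : ((b : Fx φ ((rest 1).length + 1)) : K) = c * w)
    {e : ℕ} (hc2 : (c ^ e) ^ 2 ≠ 1) (hw2 : φ ((w ^ e) ^ 2) ≠ (w ^ e) ^ 2) :
    NF (VNJ cs RGDTwD4.isCartan (X φ q) ∅) (tt hK hφ a b ^ e) ∧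
      NF (VJ cs RGDTwD4.isCartan (X φ q) ∅) (tt hK hφ a b ^ e) := by
  obtain ⟨p, hpc⟩ := CharP.exists K
  have : Fact p.Prime := ⟨(CharP.char_is_prime_or_zero K p).resolve_right (CharP.char_ne_zero_of_finite K p)⟩
  have R := RGDChev.rgd (K := K) RGDTwD4.hp coxeterD4.toCoxeterSystem p
  have hm : inc K q (tt hK hφ a b ^ e) ∈ TT chevD4 K := by
    have h1 := (Subgroup.mem_subgroupOf.1 (_root_.pow_mem (tt_mem hK hφ a b) e)).1
    exact Subgroup.mem_subgroupOf.2 h1
  have hf : NoFix coxeterD4.toCoxeterSystem RGDTwD4.hp.isCartan (XX chevD4 4 K) ∅ (inc K q (tt hK hφ a b ^ e)) := by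
    refine noFix_ch RGDTwD4.hp hm fun r hr _ => ?_
    have h2 : ch RGDTwD4.hp (vec chevD4 4 r) (inc K q (tt hK hφ a b ^ e)) =
        wt chevD4 φ (J 0) r ((c ^ e) ^ 2) * wt chevD4 φ (J 1) r (c ^ e * w ^ e) := by
      apply ch_eq RGDTwD4.hp hr hm
      rw [tt_pow, conj_tt hK hφ _ _ hr, mul_one]
      congr 3
      · rw [Units.val_pow_eq_pow_val, SubmonoidClass.coe_pow, ha]
        ring
      · rw [Units.val_pow_eq_pow_val, SubmonoidClass.coe_pow, hb, mul_pow]
    rw [h2]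
    refine scal_ne (pow_ne_zero _ hc0) (pow_ne_zero _ hw0) (by rw [map_pow, hc]) hc2 ?_ hw2 hr
    rw [map_pow, map_pow, ← mul_pow, ← mul_pow, hw, one_pow]
  have := Cfsg.Agent.Nodes.RGDChev.finite_W RGDTwD4.hp coxeterD4.toCoxeterSystem
  constructor
  · refine NF.of_hom _ (inc_injective q) (UN_le cs φ q) ?_
    exact fun x hx h5 => fix_VNJ R hm hf hx h5
  · refine NF.of_hom _ (inc_injective q) (U_le cs φ q) ?_
    exact fun x hx h5 => fix_VJ R hm hf hx h5

end

/-! ### The group -/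

theorem finite_tw (K : Type u) [Field K] [Finite K] (q : ℕ) : Finite ↥(twistedD4 K q) := by
  have hfin : Finite (GL chevD4.Idx K) := by
    have : Finite (Matrix chevD4.Idx chevD4.Idx K) := inferInstance
    infer_instance
  infer_instance

theorem hconn : ∀ J : Set (Fin 2), J.Nonempty → J ≠ Set.univ → ∃ a ∈ J, ∃ b, b ∉ J ∧ CoxeterMatrix.G₂ a b ≠ 2 :=
  Cfsg.Agent.Nodes.ChevChart.irr_of Cfsg.Agent.Nodes.ChevChart.irrG

/-- the elements `c` (of order `q - 1`) and `w` (of norm `1`) -/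
theorem exists_cw [Fintype K] {φ : K →+* K} {q : ℕ} (hφ : ∀ x, φ x = x ^ q) (hK : Fintype.card K = q ^ 3) {e : ℕ}
    (he : 0 < e) (h : 2 * e < q - 1) : ∃ c w : Kˣ, φ (c : K) = c ∧ (w : K) * (φ w * φ (φ w)) = 1 ∧
      ((c : K) ^ e) ^ 2 ≠ 1 ∧ φ (((w : K) ^ e) ^ 2) ≠ ((w : K) ^ e) ^ 2 := by
  classical
  obtain ⟨z, hz⟩ := IsCyclic.exists_ofOrder_eq_natCard (α := Kˣ)
  obtain ⟨n, rfl⟩ : ∃ n, q = n + 1 := ⟨q - 1, by omega⟩
  rw [Nat.add_sub_cancel] at h
  have h2 : Nat.card Kˣ = n * (n ^ 2 + 3 * n + 3) := by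
    rw [Nat.card_units, Nat.card_eq_fintype_card, hK]
    have : (n + 1) ^ 3 = n * (n ^ 2 + 3 * n + 3) + 1 := by ring
    rw [this, Nat.add_sub_cancel]
  rw [h2] at hz
  have hN : 0 < n ^ 2 + 3 * n + 3 := by omega
  have hφu : ∀ x : Kˣ, φ (x : K) = ((x ^ (n + 1) : Kˣ) : K) := fun x => by rw [hφ, Units.val_pow_eq_pow_val]
  refine ⟨z ^ (n ^ 2 + 3 * n + 3), z ^ n, ?_, ?_, ?_, ?_⟩
  · rw [hφu, Units.val_inj, ← pow_mul]
    have : (n ^ 2 + 3 * n + 3) * (n + 1) = n * (n ^ 2 + 3 * n + 3) + (n ^ 2 + 3 * n + 3) := by ring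
    rw [this, pow_add, ← hz, pow_orderOf_eq_one, one_mul]
  · rw [hφu, hφu, ← Units.val_mul, ← Units.val_mul, Units.val_eq_one, ← pow_mul, ← pow_mul, ← pow_add, ← pow_add]
    have : n + (n * (n + 1) + n * (n + 1) * (n + 1)) = n * (n ^ 2 + 3 * n + 3) := by ring
    rw [this, ← hz, pow_orderOf_eq_one]
  · rw [← Units.val_pow_eq_pow_val, ← Units.val_pow_eq_pow_val, ne_eq, Units.val_eq_one, ← pow_mul, ← pow_mul]
    intro h3
    have h4 := orderOf_dvd_of_pow_eq_one h3
    rw [hz, mul_comm n] at h4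
    have h5 := Nat.dvd_of_mul_dvd_mul_left hN h4
    have h6 := Nat.le_of_dvd (by omega) h5
    omega
  · intro h3
    -- the element `v = w ^ (2 e)` is fixed: `v ^ 3 = 1`
    have h4 : (((z ^ n : Kˣ) : K) ^ e) ^ 2 * (φ ((((z ^ n : Kˣ) : K) ^ e) ^ 2) * φ (φ ((((z ^ n : Kˣ) : K) ^ e) ^ 2))) = 1 := by
      simp only [hφu, ← Units.val_pow_eq_pow_val, ← Units.val_mul]
      rw [Units.val_eq_one]
      simp only [← pow_mul, ← pow_add]
      have : n * e * 2 + (n * e * 2 * (n + 1) + n * e * 2 * (n + 1) * (n + 1)) =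
          n * (n ^ 2 + 3 * n + 3) * (e * 2) := by
        ring
      rw [this, pow_mul, ← hz, pow_orderOf_eq_one, one_pow]
    rw [h3, h3, ← Units.val_pow_eq_pow_val, ← Units.val_pow_eq_pow_val, ← Units.val_mul, ← Units.val_mul,
      Units.val_eq_one, ← pow_mul, ← pow_mul, ← pow_add, ← pow_add] at h4
    have h5 := orderOf_dvd_of_pow_eq_one h4
    rw [hz] at h5
    have h6 : n * (e * 2) + (n * (e * 2) + n * (e * 2)) = n * (6 * e) := by ring
    rw [h6] at h5
    have h7 := Nat.dvd_of_mul_dvd_mul_left (by omega) h5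
    have h8 := Nat.le_of_dvd (by omega) h7
    linarith only [h, h8, _root_.sq_nonneg (↑n : ℤ)]

/-- **Powers of regular elements.** -/
theorem ss [Fintype K] {q p : ℕ} [Fact p.Prime] [CharP K p] (hq : IsPrimePow q) (hK : Fintype.card K = q ^ 3)
    {e : ℕ} (he : 0 < e) (h : 2 * e < q - 1) : SS p e ↥(twistedD4 K q) := by
  obtain ⟨φ, hφ⟩ := D4Fixed.exists_frob hq hK
  have := finite_tw K q
  have R := RGDTwD4.rgd CoxeterMatrix.G₂.toCoxeterSystem hK hφ p
  have : Finite CoxeterMatrix.G₂.Group := Cfsg.Agent.Nodes.RGDFold.finite_W (hp := RGDTwD4.hp)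
    CoxeterMatrix.G₂.toCoxeterSystem RGDTwD4.isCartan RGDTwD4.foldData
  have hS := Cfsg.Agent.S1071.result hq hK
  have := hS.1
  obtain ⟨c, w, hc, hw, hc2, hw2⟩ := exists_cw hφ hK he h
  obtain ⟨a, ha⟩ : ∃ a : (Fx φ ((rest 0).length + 1))ˣ, ((a : Fx φ ((rest 0).length + 1)) : K) = (c : K) ^ 2 := by
    refine ⟨Units.mk0 ⟨(c : K) ^ 2, ?_⟩ ?_, rfl⟩
    · refine mem_Fx.2 ?_
      show φ ((c : K) ^ 2) = (c : K) ^ 2
      rw [map_pow, hc]
    · intro h0
      exact pow_ne_zero 2 c.ne_zero (congrArg Subtype.val h0)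
  obtain ⟨b, hb⟩ : ∃ b : (Fx φ ((rest 1).length + 1))ˣ, ((b : Fx φ ((rest 1).length + 1)) : K) = (c : K) * w := by
    refine ⟨Units.mk0 ⟨(c : K) * w, ?_⟩ ?_, rfl⟩
    · refine mem_Fx.2 ?_
      show φ (φ (φ ((c : K) * w))) = (c : K) * w
      rw [hφ, hφ, hφ, ← pow_mul, ← pow_mul]
      have : q * (q * q) = Fintype.card K := by rw [hK]; ring
      rw [this, FiniteField.pow_card]
    · intro h0
      exact mul_ne_zero c.ne_zero w.ne_zero (congrArg Subtype.val h0)
  obtain ⟨g1, g2⟩ := nf_t hK hφ CoxeterMatrix.G₂.toCoxeterSystem c.ne_zero w.ne_zero hc hw ha hb hc2 hw2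
  exact Cfsg.Agent.H928.War.Rgd.ss_nf R (RGDTwD4.G1_eq_top CoxeterMatrix.G₂.toCoxeterSystem hK hφ)
    (coordP hK hφ) hconn (tt_mem hK hφ a b) g1 g2

/-- **Two `p`-elements.** -/
theorem pp [Fintype K] {q p : ℕ} [Fact p.Prime] [CharP K p] (hq : IsPrimePow q) (hK : Fintype.card K = q ^ 3) :
    PP p ↥(twistedD4 K q) := by
  obtain ⟨φ, hφ⟩ := D4Fixed.exists_frob hq hK
  have := finite_tw K q
  have R := RGDTwD4.rgd CoxeterMatrix.G₂.toCoxeterSystem hK hφ p
  have : Finite CoxeterMatrix.G₂.Group := Cfsg.Agent.Nodes.RGDFold.finite_W (hp := RGDTwD4.hp)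
    CoxeterMatrix.G₂.toCoxeterSystem RGDTwD4.isCartan RGDTwD4.foldData
  have hS := Cfsg.Agent.S1071.result hq hK
  have := hS.1
  exact Cfsg.Agent.H928.War.Rgd.pp R (RGDTwD4.G1_eq_top CoxeterMatrix.G₂.toCoxeterSystem hK hφ) (coordP hK hφ) hconn

/-! ### The numbers -/

theorem pow_mono {a b : ℕ} (ha : 1 ≤ a) (h : a ≤ b) : a ^ (8 * a ^ 2) ≤ b ^ (8 * b ^ 2) := by
  calc a ^ (8 * a ^ 2) ≤ b ^ (8 * a ^ 2) := Nat.pow_le_pow_left h _
    _ ≤ b ^ (8 * b ^ 2) := Nat.pow_le_pow_right (by omega)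
        (Nat.mul_le_mul_left 8 (Nat.pow_le_pow_left h 2))

theorem card_le [Fintype K] {q : ℕ} (hq : IsPrimePow q) (hK : Fintype.card K = q ^ 3) :
    Nat.card ↥(twistedD4 K q) < q ^ 29 := by
  rw [Cfsg.Agent.S1067.result hq hK]
  have hq2 : 2 ≤ q := hq.two_le
  have h8 : q ^ 8 + q ^ 4 + 1 < q ^ 9 := by
    have h4 : q ^ 8 = q ^ 4 * q ^ 4 := by ring
    have h9 : q ^ 9 = q * q ^ 8 := by ring
    have h5 : 2 ^ 4 ≤ q ^ 4 := Nat.pow_le_pow_left hq2 4
    linarith only [h5, Nat.mul_le_mul_right (q ^ 8) hq2, Nat.mul_le_mul_right (q ^ 4) h5]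
  calc q ^ 12 * (q ^ 2 - 1) * (q ^ 6 - 1) * (q ^ 8 + q ^ 4 + 1) ≤ q ^ 12 * q ^ 2 * q ^ 6 * (q ^ 8 + q ^ 4 + 1) := by
        gcongr
        · exact Nat.sub_le _ _
        · exact Nat.sub_le _ _
    _ < q ^ 12 * q ^ 2 * q ^ 6 * q ^ 9 := Nat.mul_lt_mul_of_pos_left h8 (by positivity)
    _ = q ^ 29 := by ring

/-- **The row `³D₄(q)`.** -/
theorem kl_3D4 {K : Type u} [Field K] [Fintype K] {q : ℕ} (hq : IsPrimePow q) (hK : Fintype.card K = q ^ 3) {k l : ℕ}
    (hk : 2 ≤ k) (hl : 2 ≤ l) (hg : ¬ k.Coprime l)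
    (hbig : (max k l) ^ (8 * (max k l) ^ 2) ≤ Nat.card ↥(twistedD4 K q)) :
    Cfsg.Agent.H134.War.KL ↥(twistedD4 K q) k l := by
  obtain ⟨p, hpc⟩ := CharP.exists K
  have hp : p.Prime := (CharP.char_is_prime_or_zero K p).resolve_right (CharP.char_ne_zero_of_finite K p)
  have : Fact p.Prime := ⟨hp⟩
  have hb := lt_of_le_of_lt hbig (card_le hq hK)
  have hm2 : 2 ≤ max k l := le_trans hk (le_max_left _ _)
  by_cases hd : p ∣ k ∨ p ∣ l
  · refine Cfsg.Agent.H130.War.SS.kl' (p := p) ?_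
    refine ss hq hK (ee_pos p hk hl) ?_
    have hpq : p ∣ q := by
      have h1 : (p : ℕ) ∣ Fintype.card K := by
        obtain ⟨n, -, hn⟩ := FiniteField.card K p
        rw [hn]
        exact dvd_pow_self p n.ne_zero
      rw [hK] at h1
      exact hp.dvd_of_dvd_pow h1
    by_cases hm : max k l ≤ 5
    · rw [Cfsg.Agent.H130.War.ee_eq_one hp hk hl hg hm hd]
      by_contra hcon
      have hq3 : q ≤ 3 := by omega
      have hq2 : 2 ≤ q := hq.two_le
      interval_cases q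
      · -- `q = 2`: the order is too small
        have h1 : Nat.card ↥(twistedD4 K 2) = 211341312 := by
          rw [Cfsg.Agent.S1067.result hq hK]
          norm_num
        have h2 := pow_mono (by norm_num : 1 ≤ 2) hm2
        rw [h1] at hbig
        norm_num only [] at h2
        omega
      · -- `q = 3`: `m ≥ 3`
        have hp3 : p = 3 := (Nat.prime_dvd_prime_iff_eq hp Nat.prime_three).1 hpq
        subst hp3
        have hm3 : 3 ≤ max k l := by
          rcases hd with h | h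
          · exact (Nat.le_of_dvd (by omega) h).trans (le_max_left _ _)
          · exact (Nat.le_of_dvd (by omega) h).trans (le_max_right _ _)
        have h2 := pow_mono (by norm_num : 1 ≤ 3) hm3
        have h3 : (3 : ℕ) ^ 29 < 3 ^ (8 * 3 ^ 2) := by norm_num
        omega
    · have h1 := num (c := 29) hm2 (by linarith only [Nat.pow_le_pow_left (by omega : 6 ≤ max k l) 2]) hb.le
      have h2 := Cfsg.Agent.H130.War.ee_le (p := p) (by omega : 1 ≤ k) hg
      omega
  · rw [not_or] at hd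
    exact Cfsg.Agent.H130.War.PP.kl hp (pp hq hK) hd.1 hd.2

/-- **`³D₄(q)`** -/
theorem kl_iso3D4 {G : Type*} [Group G] [Finite G] (h : Cfsg.Lie.Iso3D4 G) (k l : ℕ) (hk : 2 ≤ k) (hl : 2 ≤ l)
    (hg : ¬ k.Coprime l) (hbig : (max k l) ^ (8 * (max k l) ^ 2) ≤ Nat.card G) : Cfsg.Agent.H134.War.KL G k l := by
  obtain ⟨K, _, _, q, hq, hK, ⟨f⟩⟩ := h
  rw [Nat.card_congr f.toEquiv] at hbig
  exact (kl_3D4 hq hK hk hl hg hbig).congr f.symm

end Cfsg.Agent.H874.War.TwD4
end
end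

-- part: H144/War/Defs
section
set_option linter.all false

/-!
# S2453 for `PSp_2n(q)` (row L4): definitions

* `EP p e x` : `x ∈ GL(V)` is an `e`-th power of an element of order prime to `p`, and no product of two
  eigenvalues of `x` is `1` (`Sing`).
* `Fac p e A` : `A = x z` with `EP p e x`, `EP p e z`.
* `Pw B p e g` : `g = x ^ e * y ^ e` with isometries `x`, `y` of order prime to `p`.
-/

set_option autoImplicit false
open Polynomial

namespace Cfsg.Agent.H144.War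

variable {F V : Type*} [Field F] [AddCommGroup V] [Module F V]

/-- `x` is the `e`-th power of an element of order prime to `p`, and satisfies the polynomial conditions `Sing` -/
def EP (p e : ℕ) (x : V ≃ₗ[F] V) : Prop :=
  (∃ (d : V ≃ₗ[F] V) (N : ℕ), N.Coprime p ∧ d ^ N = 1 ∧ d ^ e = x) ∧ ∃ f f' : F[X], Sing x f f'

/-- `A` is the product of two such elements -/
def Fac (p e : ℕ) (A : V ≃ₗ[F] V) : Prop :=
  ∃ x z : V ≃ₗ[F] V, EP p e x ∧ EP p e z ∧ ∀ v, A v = x (z v)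

/-- `g = x ^ e * y ^ e` with isometries of order prime to `p` -/
def Pw (B : LinearMap.BilinForm F V) (p e : ℕ) (g : V ≃ₗ[F] V) : Prop :=
  ∃ (x y : V ≃ₗ[F] V) (N : ℕ), Iso B x ∧ Iso B y ∧ N.Coprime p ∧ x ^ N = 1 ∧ y ^ N = 1 ∧ g = x ^ e * y ^ e

/-- **box N1** (numbers).  `s = n`, or `s = n / 2` (only for `q` odd) -/
def Numeric : Prop := ∀ {q n s M e : ℕ} (_ : 2 ≤ q) (_ : 2 ≤ n) (_ : 2 ≤ M) (_ : 1 ≤ e)
  (_ : M ^ (8 * M ^ 2) ≤ q ^ (2 * n ^ 2 + n)) (_ : e = 1 ∨ (6 ≤ M ∧ 2 * e ≤ M ^ 2))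
  (_ : s = n ∨ (3 ≤ q ∧ n = 2 * s ∧ 3 ≤ s)), e * (q ^ (s / 2) + 1) < q ^ s - 1

/-- **box N2** (field elements) -/
def ExistsXi : Prop := ∀ (F : Type) [Field F] [Finite F] {s e : ℕ} (_ : 2 ≤ s) (_ : 1 ≤ e)
  (_ : e * (Nat.card F ^ (s / 2) + 1) < Nat.card F ^ s - 1),
  ∃ (K : Type) (_ : Field K) (_ : Algebra F K) (_ : FiniteDimensional F K), Module.finrank F K = s ∧
    ∃ ζ : K, ζ ≠ 0 ∧ ζ ^ (Nat.card F ^ s - 1) = 1 ∧ (minpoly F (ζ ^ e)).natDegree = s ∧
      aeval (ζ ^ e)⁻¹ (minpoly F (ζ ^ e)) ≠ 0 ∧ aeval (ζ ^ e) (minpoly F (ζ ^ e)⁻¹) ≠ 0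

end Cfsg.Agent.H144.War
end

-- part: H144/War/Boxes2
section
prune_inst 0x300000000000000000000000000000000
set_option linter.all false
open scoped Cfsg.Agent.FastGrp

-- part: H144/War/Engine
section
/-!
# The engine: corners `A = x z` with `x`, `z` good

* `pw_of_corner` : `V = P ⊕ Q` totally isotropic, `g v - A v ∈ Q` for `v ∈ P` and `Fac p e A` imply `Pw B p e g`.
* `fac_conj` : `Fac` is invariant under isomorphisms.
-/

set_option autoImplicit false
open Polynomial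

noncomputable section

namespace Cfsg.Agent.H144.War

variable {F V M : Type*} [Field F] [AddCommGroup V] [Module F V] [AddCommGroup M] [Module F M]

/-! ### transport -/

/-- transport of an automorphism -/
def tr (e : V ≃ₗ[F] M) (x : M ≃ₗ[F] M) : V ≃ₗ[F] V := e.trans (x.trans e.symm)

theorem tr_apply (e : V ≃ₗ[F] M) (x : M ≃ₗ[F] M) (v : V) : tr e x v = e.symm (x (e v)) := rfl

theorem tr_mul (e : V ≃ₗ[F] M) (x y : M ≃ₗ[F] M) : tr e (x * y) = tr e x * tr e y := by
  ext v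
  simp [tr_apply, LinearEquiv.mul_apply]

theorem tr_one (e : V ≃ₗ[F] M) : tr e 1 = 1 := by
  ext v
  simp [tr_apply]

theorem tr_pow (e : V ≃ₗ[F] M) (x : M ≃ₗ[F] M) (k : ℕ) : tr e (x ^ k) = tr e x ^ k := by
  induction k with
  | zero => rw [pow_zero, pow_zero, tr_one]
  | succ k ih => rw [pow_succ, tr_mul, ih, pow_succ]

theorem EP.conj {p e : ℕ} {x : M ≃ₗ[F] M} (hx : EP p e x) (φ : V ≃ₗ[F] M) : EP p e (tr φ x) := by
  obtain ⟨⟨d, N, hN, hd, hde⟩, f, f', hf⟩ := hx
  exact ⟨⟨tr φ d, N, hN, by rw [← tr_pow, hd, tr_one], by rw [← tr_pow, hde]⟩, f, f', hf.conj φ (fun v => rfl)⟩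

theorem Fac.conj {p e : ℕ} {A : M ≃ₗ[F] M} (hA : Fac p e A) (φ : V ≃ₗ[F] M) {A' : V ≃ₗ[F] V}
    (h : ∀ v, φ (A' v) = A (φ v)) : Fac p e A' := by
  obtain ⟨x, z, hx, hz, hxz⟩ := hA
  refine ⟨tr φ x, tr φ z, hx.conj φ, hz.conj φ, fun v => ?_⟩
  rw [tr_apply, tr_apply, φ.apply_symm_apply, ← hxz, ← h, φ.symm_apply_apply]

/-! ### inverse -/

theorem sing_inv {x : V ≃ₗ[F] V} {f f' : F[X]} (h : Sing x f f') : Sing x⁻¹ f' f := by
  obtain ⟨h1, h2, h3, h4⟩ := h
  refine ⟨h3, ?_, ?_, h2⟩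
  · rw [inv_inv]; exact h4
  · rw [inv_inv]; exact h1

theorem EP.inv {p e : ℕ} {x : V ≃ₗ[F] V} (hx : EP p e x) : EP p e x⁻¹ := by
  obtain ⟨⟨d, N, hN, hd, hde⟩, f, f', hf⟩ := hx
  exact ⟨⟨d⁻¹, N, hN, by rw [inv_pow, hd, inv_one], by rw [inv_pow, hde]⟩, f', f, sing_inv hf⟩

/-! ### conjugation by `g` and powers -/

theorem conj_pow' {G : Type*} [Group G] (u x : G) (k : ℕ) : (u * x * u⁻¹) ^ k = u * x ^ k * u⁻¹ := by
  induction k with
  | zero => simp
  | succ k ih => rw [pow_succ, ih, pow_succ]; group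

theorem Iso.pow {B : LinearMap.BilinForm F V} {g : V ≃ₗ[F] V} (hg : Iso B g) (k : ℕ) : Iso B (g ^ k) := by
  induction k with
  | zero => rw [pow_zero]; exact Iso.one B
  | succ k ih => rw [pow_succ]; exact Iso.mul ih hg

theorem mem_pow {D : V ≃ₗ[F] V} {Q : Submodule F V} (h : ∀ v ∈ Q, D v ∈ Q) (k : ℕ) : ∀ v ∈ Q, (D ^ k) v ∈ Q := by
  induction k with
  | zero => intro v hv; simpa using hv
  | succ k ih => intro v hv; rw [pow_succ, LinearEquiv.mul_apply]; exact ih _ (h v hv)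

theorem pow_restrict {D : V ≃ₗ[F] V} {P : Submodule F V} {d : P ≃ₗ[F] P} (h : ∀ v : P, D v = d v) (k : ℕ) (v : P) :
    (D ^ k) v = ((d ^ k) v : P) := by
  induction k generalizing v with
  | zero => simp
  | succ k ih =>
    rw [pow_succ, LinearEquiv.mul_apply, h, ih, pow_succ, LinearEquiv.mul_apply]

variable [FiniteDimensional F V]

/-- the polynomial conditions for the extension of `x` to `V` -/
theorem sing_levi {B : LinearMap.BilinForm F V} (hB : Alt B) (hN : Nond B) {P Q : Submodule F V}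
    (hQ : Orth B Q Q) (hPQ : P ⊔ Q = ⊤) {x : P ≃ₗ[F] P} {f f' : F[X]}
    (hx : Sing x f f') {X : V ≃ₗ[F] V} (hX : Iso B X) (hXx : ∀ v : P, X v = x v) (hXQ : ∀ v ∈ Q, X v ∈ Q) :
    (∀ v ∈ P, aeval (X : Module.End F V) f v = 0) ∧
    (∀ v ∈ Q, aeval (X : Module.End F V) f v = 0 → v = 0) ∧
    (∀ v ∈ Q, aeval (X : Module.End F V) f' v = 0) ∧
    (∀ v ∈ P, aeval (X : Module.End F V) f' v = 0 → v = 0) := by
  have hXi : ∀ v : P, X⁻¹ v = (x⁻¹ v : P) := by
    intro v
    have h1 := hXx (x⁻¹ v)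
    rw [app_inv] at h1
    rw [← h1, inv_app]
  refine ⟨?_, ?_, ?_, ?_⟩
  · intro v hv
    have h1 := aeval_restrict (X := (X : Module.End F V)) (x := (x : Module.End F P)) hXx f ⟨v, hv⟩
    rw [h1, hx.1]
    rfl
  · intro v hv h0
    apply eq_zero_of_orth hN hPQ _ (hQ v hv)
    intro w hw
    have hinj : Function.Injective (aeval ((x⁻¹ : P ≃ₗ[F] P) : Module.End F P) f) := by
      rw [← LinearMap.ker_eq_bot, LinearMap.ker_eq_bot']
      exact hx.2.1
    obtain ⟨w', hw'⟩ := (LinearMap.injective_iff_surjective.1 hinj) ⟨w, hw⟩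
    have h1 := aeval_adj hX f (w' : V) v
    have h2 := aeval_restrict (X := ((X⁻¹ : V ≃ₗ[F] V) : Module.End F V))
      (x := ((x⁻¹ : P ≃ₗ[F] P) : Module.End F P)) hXi f w'
    rw [h0, map_zero, h2, hw'] at h1
    exact hB.zero h1.symm
  · intro v hv
    apply eq_zero_of_orth hN hPQ _ (hQ _ (aeval_mem hXQ f' v hv))
    intro w hw
    have h1 := aeval_adj hX f' w v
    have h2 := aeval_restrict (X := ((X⁻¹ : V ≃ₗ[F] V) : Module.End F V))
      (x := ((x⁻¹ : P ≃ₗ[F] P) : Module.End F P)) hXi f' ⟨w, hw⟩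
    simp only at h2
    rw [h2, hx.2.2.1, Submodule.coe_zero, map_zero, LinearMap.zero_apply] at h1
    exact hB.zero h1
  · intro v hv h0
    have h1 := aeval_restrict (X := (X : Module.End F V)) (x := (x : Module.End F P)) hXx f' ⟨v, hv⟩
    rw [h0] at h1
    exact congrArg Subtype.val (hx.2.2.2 ⟨v, hv⟩ (Subtype.ext h1.symm))

theorem skew_conj {B : LinearMap.BilinForm F V} {P : Submodule F V} {X : V ≃ₗ[F] V} (hX : Iso B X)
    (hXP : ∀ v ∈ P, X v ∈ P) {m : Module.End F V} (hm : m ∈ Skew B P) : X.symm.conj m ∈ Skew B P := by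
  have hXi := inv_mem_of_mem hXP
  have hap : ∀ v, X.symm.conj m v = X.symm (m (X v)) := fun v => rfl
  refine ⟨fun v => ?_, fun v hv => ?_, fun x y => ?_⟩
  · exact hXi _ (hm.1 _)
  · rw [hap, hm.2.1 _ (hXP v hv), map_zero]
  · have h1 := hm.2.2 (X x) (X y)
    have h2 := hX (X.symm (m (X x))) y
    have h3 := hX x (X.symm (m (X y)))
    rw [X.apply_symm_apply] at h2 h3
    rw [hap, hap, ← h2, ← h3, h1]

theorem pw_of_corner {B : LinearMap.BilinForm F V} (hB : Alt B) (hN : Nond B) {P Q : Submodule F V}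
    (hP : Orth B P P) (hQ : Orth B Q Q) (hPQ : P ⊔ Q = ⊤) {p e : ℕ} {A : P ≃ₗ[F] P} (hA : Fac p e A)
    {g : V ≃ₗ[F] V} (hg : Iso B g) (hc : ∀ v : P, g v - A v ∈ Q) : Pw B p e g := by
  obtain ⟨x, z, ⟨⟨d₁, N₁, hN₁, hd₁, hde₁⟩, f₁, f₁', hf₁⟩, ⟨⟨d₂, N₂, hN₂, hd₂, hde₂⟩, f₂, f₂', hf₂⟩, hxz⟩ := hA
  obtain ⟨D₁, hD₁, hDd₁, hDQ₁⟩ := levi hB hN hP hQ hPQ d₁
  obtain ⟨D₂, hD₂, hDd₂, hDQ₂⟩ := levi hB hN hP hQ hPQ d₂
  have hX : Iso B (D₁ ^ e) := Iso.pow hD₁ e
  have hZ : Iso B (D₂ ^ e) := Iso.pow hD₂ e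
  have hXx : ∀ v : P, (D₁ ^ e) v = x v := fun v => by rw [pow_restrict hDd₁, hde₁]
  have hZz : ∀ v : P, (D₂ ^ e) v = z v := fun v => by rw [pow_restrict hDd₂, hde₂]
  have hXQ := mem_pow hDQ₁ e
  have hZQ := mem_pow hDQ₂ e
  have hN1 : D₁ ^ N₁ = 1 := by
    ext v
    have := levi_unique hB hN hP hQ hPQ (Iso.pow hD₁ N₁) (mem_pow hDQ₁ N₁) 1 (one_mul 1)
      (fun v hv => by rw [pow_restrict hDd₁ N₁ ⟨v, hv⟩, hd₁, one_smul]; rfl) v
    rw [this, one_smul]
    rfl
  have hN2 : D₂ ^ N₂ = 1 := by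
    ext v
    have := levi_unique hB hN hP hQ hPQ (Iso.pow hD₂ N₂) (mem_pow hDQ₂ N₂) 1 (one_mul 1)
      (fun v hv => by rw [pow_restrict hDd₂ N₂ ⟨v, hv⟩, hd₂, one_smul]; rfl) v
    rw [this, one_smul]
    rfl
  obtain ⟨a1, a2, -, -⟩ := sing_levi hB hN hQ hPQ hf₁ hX hXx hXQ
  obtain ⟨-, -, b3, b4⟩ := sing_levi hB hN hQ hPQ hf₂ hZ hZz hZQ
  generalize hXe : D₁ ^ e = X at *
  generalize hZe : D₂ ^ e = Z at *
  have hXP : ∀ v ∈ P, X v ∈ P := fun v hv => by rw [hXx ⟨v, hv⟩]; exact (x ⟨v, hv⟩).2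
  have hZP : ∀ v ∈ P, Z v ∈ P := fun v hv => by rw [hZz ⟨v, hv⟩]; exact (z ⟨v, hv⟩).2
  -- `h = g (X Z)⁻¹`
  have hXZP : ∀ v ∈ P, (X * Z) v ∈ P := fun v hv => hXP _ (hZP v hv)
  obtain ⟨n, m, hn, hm, hnm⟩ := c1_factor hB hN hP hQ hPQ (g := g * (X * Z)⁻¹) (hg.mul (hX.mul hZ).inv) (by
    intro v hv
    have h1 := inv_mem_of_mem hXZP v hv
    have h2 := hc ⟨_, h1⟩
    have h3 : ((A ⟨_, h1⟩ : P) : V) = v := by
      rw [hxz, ← hXx, ← hZz]
      exact app_inv (X * Z) v
    rw [h3] at h2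
    exact h2)
  have hgn : g = uni n (skew_sq hn) * uni m (skew_sq hm) * (X * Z) := by
    rw [← hnm]; group
  have hm' := skew_conj hX hXP hm
  have e0 : uni m (skew_sq hm) * X = X * uni (X.symm.conj m) (skew_sq hm') := by
    ext v
    rw [LinearEquiv.mul_apply, LinearEquiv.mul_apply, uni_apply, uni_apply, map_add]
    congr 1
    exact (X.apply_symm_apply _).symm
  obtain ⟨s, hs, hsX⟩ := sylvester hPQ hX hXQ f₁ a1 a2 hn
  have e1 : uni s (skew_sq hs) * X = uni n (skew_sq hn) * X * uni s (skew_sq hs) := by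
    ext v
    simp only [LinearEquiv.mul_apply, uni_apply, map_add]
    have : n (X (s v)) = 0 := hn.2.1 _ (hXQ _ (hs.1 v))
    rw [hsX, this]
    abel
  have hQP : Q ⊔ P = ⊤ := by rw [sup_comm]; exact hPQ
  obtain ⟨t, ht, htZ⟩ := sylvester hQP hZ hZP f₂' b3 b4 hm'
  have e2 : uni t (skew_sq ht) * Z = uni (X.symm.conj m) (skew_sq hm') * Z * uni t (skew_sq ht) := by
    ext v
    simp only [LinearEquiv.mul_apply, uni_apply, map_add]
    have : (X.symm.conj m) (Z (t v)) = 0 := hm'.2.1 _ (hZP _ (ht.1 v))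
    rw [htZ, this]
    abel
  have hui : Iso B (uni s (skew_sq hs)) := skew_iso hQ hs
  have hti : Iso B (uni t (skew_sq ht)) := skew_iso hP ht
  generalize uni n (skew_sq hn) = a at *
  generalize uni m (skew_sq hm) = b at *
  generalize uni (X.symm.conj m) (skew_sq hm') = b' at *
  generalize uni s (skew_sq hs) = u at *
  generalize uni t (skew_sq ht) = w at *
  have k1 : a * X = u * X * u⁻¹ := by rw [e1]; group
  have k2 : b' * Z = w * Z * w⁻¹ := by rw [e2]; group
  refine ⟨u * D₁ * u⁻¹, w * D₂ * w⁻¹, N₁ * N₂, (hui.mul hD₁).mul hui.inv, (hti.mul hD₂).mul hti.inv,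
    Nat.Coprime.mul_left hN₁ hN₂, ?_, ?_, ?_⟩
  · rw [conj_pow', pow_mul, hN1, one_pow]; group
  · rw [conj_pow', mul_comm, pow_mul, hN2, one_pow]; group
  · rw [conj_pow', conj_pow', hXe, hZe, ← k1, ← k2, hgn]
    calc a * b * (X * Z) = a * (b * X) * Z := by group
      _ = a * (X * b') * Z := by rw [e0]
      _ = _ := by group

end Cfsg.Agent.H144.War
end
end

-- part: H144/War/Boxes
section
/-!
# S2453 for `PSp_2n(q)`: the boxes

`Mix B g a b R` : `R = (U ⊕ W) ⊕ Q`, `U ⊕ W` and `Q` totally isotropic, `dim U = a`, `dim W = b`, the corner of `g`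
on `U ⊕ W` is `1` on `U` and `-1` on `W`.
-/

set_option autoImplicit false
open Polynomial

namespace Cfsg.Agent.H144.War

variable {F V : Type*} [Field F] [AddCommGroup V] [Module F V]

/-- the corner `diag(1_a, -1_b)` on `R` -/
def Mix (B : LinearMap.BilinForm F V) (g : V ≃ₗ[F] V) (a b : ℕ) (R : Submodule F V) : Prop :=
  ∃ U W Q : Submodule F V, Orth B (U ⊔ W) (U ⊔ W) ∧ Orth B Q Q ∧ U ⊔ W ⊔ Q = R ∧ Module.finrank F U = a ∧
    Module.finrank F W = b ∧ (∀ v ∈ U, g v - v ∈ Q) ∧ ∀ v ∈ W, g v + v ∈ Q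

/-- **box R** (reflection).  `g = (1 + n)(1 + m)` on `R = P ⊕ Q`, `n ≠ 0` (or `m ≠ 0`, exchange `P` and `Q`): choose
`v ∈ P` with `B (g v) v ≠ 0` and replace `Q` by `{w + s w}`, `s w = (2 / B (g v) v) • B w v • v` : the corner becomes the
reflection `u ↦ u - 2 (B (g u) v / B (g v) v) v`. -/
def Reflection : Prop := ∀ {F V : Type} [Field F] [AddCommGroup V] [Module F V] [FiniteDimensional F V] (_ : (2 : F) ≠ 0)
  {B : LinearMap.BilinForm F V} (_ : Alt B) {g : V ≃ₗ[F] V} (_ : Iso B g) {R : Submodule F V} (_ : Nd B R)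
  (_ : Inv g R) {a : ℕ} (_ : Module.finrank F R = 2 * (a + 1)) (_ : C1On B g R) (_ : ¬ ∀ v ∈ R, g v = v), Mix B g a 1 R

/-- **box J2** (block).  `A = 1` on `U` (`dim U = s - 2`), `A p₁ = p₂`, `A p₂ = - p₁`: then `A = x z` with good `x`, `z`. -/
def JBlock : Prop := ∀ {F V : Type} [Field F] [Finite F] [AddCommGroup V] [Module F V] [FiniteDimensional F V]
  (_ : (2 : F) ≠ 0) {p e s : ℕ} [CharP F p] (_ : 2 ≤ s) (_ : 1 ≤ e)
  (_ : e * (Nat.card F ^ (s / 2) + 1) < Nat.card F ^ s - 1) (_ : Module.finrank F V = s) {U : Submodule F V}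
  (_ : Module.finrank F U = s - 2) {A : V ≃ₗ[F] V} (_ : ∀ v ∈ U, A v = v) {p₁ p₂ : V} (_ : A p₁ = p₂) (_ : A p₂ = -p₁)
  (_ : U ⊔ Submodule.span F {p₁, p₂} = ⊤), Fac p e A

/-- **box J1** (corner).  `g = 1` on `R'` of dimension `2 (s - 1)`, `g = -1` on `R₁` of dimension `2`: there is a corner
as in `JBlock`.  Hyperbolic pairs `e₁, f₁` of `R'`, `e₂, f₂` of `R₁`: `p₁ = e₁ + e₂`, `p₂ = f₁ - f₂`, and `Q` contains
`e₁ - e₂ - f₁ + f₂`, `f₁ + f₂ + e₁ + e₂`. -/
def JCorner : Prop := ∀ {F V : Type} [Field F] [AddCommGroup V] [Module F V] [FiniteDimensional F V] (_ : (2 : F) ≠ 0)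
  {B : LinearMap.BilinForm F V} (_ : Alt B) (_ : Nond B) {g : V ≃ₗ[F] V} (_ : Iso B g) {R' R₁ : Submodule F V} {s : ℕ}
  (_ : 2 ≤ s) (_ : Module.finrank F R' = 2 * (s - 1)) (_ : Module.finrank F R₁ = 2) (_ : Orth B R' R₁)
  (_ : R' ⊔ R₁ = ⊤) (_ : ∀ v ∈ R', g v = v) (_ : ∀ v ∈ R₁, g v = -v),
  ∃ P Q U : Submodule F V, ∃ p₁ ∈ P, ∃ p₂ ∈ P, Orth B P P ∧ Orth B Q Q ∧ P ⊔ Q = ⊤ ∧ U ≤ P ∧
    Module.finrank F U = s - 2 ∧ U ⊔ Submodule.span F {p₁, p₂} = P ∧ (∀ v ∈ U, g v - v ∈ Q) ∧ g p₁ - p₂ ∈ Q ∧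
    g p₂ + p₁ ∈ Q

end Cfsg.Agent.H144.War
end

-- part: H144/War/Boxes2
section
/-!
# S2453 for `PSp_2n(q)`: the block lemma for the corner `diag(1_a, -1_b)`, `b` even
-/

set_option autoImplicit false
open Polynomial

namespace Cfsg.Agent.H144.War

/-- **box E** (core of the mixed block).  `K = F[ξ]` of degree `r + c`, `1 ≤ c ≤ r + 1`, `g = minpoly F ξ`, `f` monic of degree
`r + c` with `f(0) = (-1)^c g(0)`.  There is `X` killed by `f` such that `A = X ∘ (ξ ·)⁻¹` is `1` on a subspace `W` of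
dimension `r` and `-1` modulo `W`. -/
def MixCore : Prop := ∀ {F K : Type} [Field F] [Field K] [Algebra F K] [FiniteDimensional F K] {r c : ℕ} (_ : 1 ≤ c)
  (_ : c ≤ r + 1) (_ : Module.finrank F K = r + c) {ξ : K} (_ : ξ ≠ 0) (_ : (minpoly F ξ).natDegree = r + c)
  {f : F[X]} (_ : f.Monic) (_ : f.natDegree = r + c) (_ : f.coeff 0 = (-1) ^ c * (minpoly F ξ).coeff 0),
  ∃ (X : K ≃ₗ[F] K) (W : Submodule F K), aeval (X : Module.End F K) f = 0 ∧ Module.finrank F W = r ∧
    (∀ v : K, ξ * v ∈ W → X v = ξ * v) ∧ ∀ v : K, X v + ξ * v ∈ W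

end Cfsg.Agent.H144.War
end
end

-- part: H144/War/MixEng
section
prune_inst 0x406044784000000000a01062001c42820001020048040024a1050205898402c9424821ab9025134082004408300048121000000000000000200000011901800000000010000000020080000100000000000000300000000000000000000000000000000
set_option linter.all false
open scoped Cfsg.Agent.FastGrp

-- part: H144/War/Split
section
/-!
# Splitting `V = V' ⊥ V₁` with corners `1` and `-1`
-/

set_option autoImplicit false
open Polynomial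

noncomputable section

namespace Cfsg.Agent.H144.War

variable {F V : Type*} [Field F] [AddCommGroup V] [Module F V]

theorem ng_ng (g : V ≃ₗ[F] V) : ng (ng g) = g := by
  ext v
  rw [ng_apply, ng_apply, neg_neg]

theorem inv_ng {g : V ≃ₗ[F] V} {P : Submodule F V} (h : Inv g P) : Inv (ng g) P := fun v hv => by
  rw [ng_apply]
  exact P.neg_mem (h v hv)

theorem orth_bot (B : LinearMap.BilinForm F V) (P : Submodule F V) : Orth B P ⊥ := by
  intro x _ y hy
  rw [Submodule.mem_bot] at hy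
  rw [hy, map_zero]

theorem disjoint_of_orth {B : LinearMap.BilinForm F V} (hB : Alt B) {R S : Submodule F V} (hRS : Orth B R S)
    (hR : Nd B R) : Disjoint R S := by
  rw [Submodule.disjoint_def]
  intro v hv hv'
  exact hR v hv (fun w hw => hB.zero (hRS w hw v hv'))

section FD

variable [FiniteDimensional F V]

theorem finrank_sup_of_orth {B : LinearMap.BilinForm F V} (hB : Alt B) {R S U U' : Submodule F V} (hRS : Orth B R S)
    (hR : Nd B R) (hU : U ≤ R) (hU' : U' ≤ S) :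
    Module.finrank F (U ⊔ U' : Submodule F V) = Module.finrank F U + Module.finrank F U' := by
  have h1 := Submodule.finrank_sup_add_finrank_inf_eq U U'
  have h2 : U ⊓ U' = ⊥ := by
    rw [eq_bot_iff]
    intro v hv
    exact ((Submodule.disjoint_def.1 (disjoint_of_orth hB hRS hR)) v (hU hv.1) (hU' hv.2) : v = 0)
  rw [h2, finrank_bot, add_zero] at h1
  exact h1

/-- a nondegenerate `R ≤ P` splits off -/
theorem split_off {B : LinearMap.BilinForm F V} (hB : Alt B) {P Q : Submodule F V} (hQP : Q ≤ P) (hQN : Nd B Q)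
    (hPN : Nd B P) : ∃ R : Submodule F V, R ≤ P ∧ Orth B Q R ∧ Q ⊔ R = P ∧ Nd B R ∧
      Module.finrank F Q + Module.finrank F R = Module.finrank F P ∧ R = P ⊓ perp B Q := by
  set R := P ⊓ perp B Q with hR
  have hQR : Q ⊔ R = P := by
    apply le_antisymm (sup_le hQP inf_le_left)
    intro v hv
    have h1 : v ∈ Q ⊔ perp B Q := by rw [sup_perp hB hQN]; trivial
    obtain ⟨a, ha, b, hb, rfl⟩ := Submodule.mem_sup.1 h1
    refine Submodule.add_mem_sup ha ⟨?_, hb⟩
    have := P.sub_mem hv (hQP ha)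
    simpa using this
  have hQRo : Orth B Q R := fun x hx y hy => hy.2 x hx
  have hRN : Nd B R := by
    intro v hv h0
    apply hPN v hv.1
    intro w hw
    rw [← hQR] at hw
    obtain ⟨a, ha, b, hb, rfl⟩ := Submodule.mem_sup.1 hw
    rw [map_add, h0 b hb, hB.zero (hQRo a ha v hv), add_zero]
  refine ⟨R, inf_le_left, hQRo, hQR, hRN, ?_, rfl⟩
  rw [← finrank_sup_of_orth hB hQRo hQN le_rfl le_rfl, hQR]

/-- the dimension of a Lagrangian -/
theorem finrank_lag {B : LinearMap.BilinForm F V} (hB : Alt B) {P Q R : Submodule F V} (hR : Nd B R)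
    (hP : Orth B P P) (hQ : Orth B Q Q) (hPQ : P ⊔ Q = R) : Module.finrank F R = 2 * Module.finrank F P := by
  have hPR : P ≤ R := by rw [← hPQ]; exact le_sup_left
  have hQR : Q ≤ R := by rw [← hPQ]; exact le_sup_right
  have h1 := finrank_two (restrict_alt hB R) (restrict_nond hR) (P := P.comap R.subtype) (Q := Q.comap R.subtype)
    (fun x hx y hy => hP x hx y hy) (fun x hx y hy => hQ x hx y hy) (by
      rw [eq_top_iff]
      intro v _
      have hv : (v : V) ∈ P ⊔ Q := by rw [hPQ]; exact v.2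
      obtain ⟨a, ha, b, hb, hab⟩ := Submodule.mem_sup.1 hv
      rw [Submodule.mem_sup]
      exact ⟨⟨a, hPR ha⟩, ha, ⟨b, hQR hb⟩, hb, Subtype.ext hab⟩)
  rw [h1, (Submodule.comapSubtypeEquivOfLe hPR).finrank_eq]

theorem exists_split [Finite F] {B : LinearMap.BilinForm F V} (hB : Alt B) {g : V ≃ₗ[F] V}
    (hg : Iso B g) (n : ℕ) : ∀ P : Submodule F V, Inv g P → Nd B P → Module.finrank F P = n →
    ∃ P' P₁ : Submodule F V, Orth B P' P₁ ∧ Inv g P' ∧ Inv g P₁ ∧ Nd B P' ∧ Nd B P₁ ∧ P' ⊔ P₁ = P ∧ C1On B g P' ∧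
      C1On B (ng g) P₁ ∧ ((2 : F) = 0 → P₁ = ⊥) := by
  induction n using Nat.strong_induction_on with
  | _ n ih =>
  intro P hPI hPN hn
  rcases Nat.eq_zero_or_pos n with h0 | hpos
  · rw [h0] at hn
    have hbot : P = ⊥ := Submodule.finrank_eq_zero.1 hn
    subst hbot
    exact ⟨⊥, ⊥, orth_bot B _, Inv.bot g, Inv.bot g, Nd.bot B, Nd.bot B, by simp, C1On.bot B g, C1On.bot B _,
      fun _ => rfl⟩
  · -- a minimal nonzero invariant nondegenerate subspace
    classical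
    have hex : ∃ k, ∃ Q : Submodule F V, Q ≤ P ∧ Q ≠ ⊥ ∧ Inv g Q ∧ Nd B Q ∧ Module.finrank F Q = k :=
      ⟨n, P, le_rfl, by
        rintro rfl
        rw [finrank_bot] at hn
        omega, hPI, hPN, hn⟩
    obtain ⟨Q, hQP, hQ0, hQI, hQN, hQk⟩ := Nat.find_spec hex
    have hmin : ∀ Q' : Submodule F V, Q' ≤ P → Q' ≠ ⊥ → Inv g Q' → Nd B Q' →
        Module.finrank F Q ≤ Module.finrank F Q' := by
      intro Q' h1 h2 h3 h4
      rw [hQk]
      exact Nat.find_min' hex ⟨Q', h1, h2, h3, h4, rfl⟩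
    have hQnt : Nontrivial Q := Submodule.nontrivial_iff_ne_bot.2 hQ0
    have hIndec : Indec (B.restrict Q) (gr g Q hQI) := by
      intro R hRI hRN
      by_cases hR : R = ⊥
      · exact Or.inl hR
      right
      have h1 : Module.finrank F (R.map Q.subtype) = Module.finrank F R :=
        (Submodule.equivMapOfInjective Q.subtype Q.injective_subtype R).finrank_eq.symm
      have h2 := hmin (R.map Q.subtype) ((Submodule.map_subtype_le Q R).trans hQP) (by
        intro h0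
        apply hR
        rw [h0, finrank_bot] at h1
        exact Submodule.finrank_eq_zero.1 h1.symm) (by
        rintro _ ⟨x, hx, rfl⟩
        exact ⟨_, hRI x hx, rfl⟩) (by
        rintro _ ⟨x, hx, rfl⟩ h0
        have := hRN x hx (fun w hw => h0 w ⟨w, hw, rfl⟩)
        rw [this]; rfl)
      rw [h1] at h2
      exact Submodule.eq_top_of_finrank_eq (le_antisymm (Submodule.finrank_le R) h2)
    have hpiece := indec_main (restrict_alt hB Q) (restrict_nond hQN) (gr_iso hg Q hQI) hIndec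
    obtain ⟨R, hRP, hQRo, hQR, hRN, hfin, hRdef⟩ := split_off hB hQP hQN hPN
    have hRI : Inv g R := by
      rw [hRdef]
      intro v hv
      refine ⟨hPI v hv.1, fun w hw => ?_⟩
      rw [hg.adj']
      exact hv.2 _ (inv_mem_of_mem hQI w hw)
    have hQpos : 0 < Module.finrank F Q := Module.finrank_pos
    obtain ⟨P', P₁, o1, i1, i2, n1, n2, hsup, hc, hc', h20⟩ :=
      ih (Module.finrank F R) (by omega) R hRI hRN rfl
    have hP'R : P' ≤ R := by rw [← hsup]; exact le_sup_left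
    have hP₁R : P₁ ≤ R := by rw [← hsup]; exact le_sup_right
    have oQ : ∀ {T : Submodule F V}, T ≤ R → Orth B Q T := fun hT x hx y hy => hQRo x hx y (hT hy)
    rcases hpiece with hC | ⟨h2, hE⟩
    · refine ⟨Q ⊔ P', P₁, orth_sup (oQ hP₁R) o1, Inv.sup hQI i1, i2,
        Nd.sup hB (oQ hP'R) hQN n1, n2, ?_, C1On.sup hB (oQ hP'R) (c1On_of_c1 hQI hC) hc, hc', h20⟩
      rw [sup_assoc, hsup, hQR]
    · have hCQ : C1On B (ng g) Q := by
        apply c1On_of_c1 (inv_ng hQI)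
        have : gr (ng g) Q (inv_ng hQI) = ng (gr g Q hQI) := by
          ext w
          rfl
        rw [this]
        exact hE.1
      refine ⟨P', Q ⊔ P₁, orth_sup' ((oQ hP'R).symm hB) o1, i1, Inv.sup hQI i2, n1,
        Nd.sup hB (oQ hP₁R) hQN n2, ?_, hc, C1On.sup hB (oQ hP₁R) hCQ hc', fun h => absurd h h2⟩
      rw [← sup_assoc, sup_comm P' Q, sup_assoc, hsup, hQR]

/-- Lagrangian decompositions -/
theorem exists_lag [Finite F] {B : LinearMap.BilinForm F V} (hB : Alt B) {R : Submodule F V} (hR : Nd B R)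
    {g : V ≃ₗ[F] V} (hg : Iso B g) (h : ∀ v ∈ R, g v = v) : C1On B g R := by
  obtain ⟨P', P₁, o1, i1, i2, n1, n2, hsup, hc, hc', h20⟩ := exists_split hB hg _ R
    (fun v hv => by rw [h v hv]; exact hv) hR rfl
  have h0 : P₁ = ⊥ := by
    by_cases h2 : (2 : F) = 0
    · exact h20 h2
    obtain ⟨W, W', k1, k2, k3, k4⟩ := hc'
    have hWP : W ≤ P₁ := by rw [← k3]; exact le_sup_left
    have hPR : P₁ ≤ R := by rw [← hsup]; exact le_sup_right
    have hWW : W ≤ W' := by
      intro v hv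
      have h3 := k4 v hv
      rw [ng_apply, h v (hPR (hWP hv))] at h3
      have h4 : v = (-(2 : F)⁻¹) • (-v - v) := by
        have : (-(2 : F)⁻¹) • (-v - v) = ((2 : F)⁻¹ * 2) • v := by module
        rw [this, inv_mul_cancel₀ h2, one_smul]
      rw [h4]
      exact W'.smul_mem _ h3
    rw [sup_eq_right.2 hWW] at k3
    rw [eq_bot_iff]
    intro v hv
    exact n2 v hv (fun w hw => by rw [← k3] at hv hw; exact k2 v hv w hw)
  rw [h0, sup_bot_eq] at hsup
  rw [← hsup]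
  exact hc

/-- a nondegenerate subspace of dimension `2 k` -/
theorem exists_sub {B : LinearMap.BilinForm F V} (hB : Alt B) {R : Submodule F V} (hR : Nd B R) {n : ℕ}
    (hn : Module.finrank F R = 2 * n) (k : ℕ) (hk : k ≤ n) : ∃ R₁ : Submodule F V, R₁ ≤ R ∧ Nd B R₁ ∧
      Module.finrank F R₁ = 2 * k := by
  induction k with
  | zero => exact ⟨⊥, bot_le, Nd.bot B, by simp⟩
  | succ k ih =>
    obtain ⟨R₁, h1, h2, h3⟩ := ih (by omega)
    obtain ⟨R₂, h4, h5, h6, h7, h8, -⟩ := split_off hB h1 h2 hR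
    have hR2 : R₂ ≠ ⊥ := by
      rintro rfl
      rw [finrank_bot] at h8
      omega
    obtain ⟨e, he, he0⟩ := Submodule.exists_mem_ne_zero_of_ne_bot hR2
    obtain ⟨f, hf, hef⟩ : ∃ f ∈ R₂, B e f ≠ 0 := by
      by_contra hcon
      push Not at hcon
      exact he0 (h7 e he hcon)
    set H := Submodule.span F {e} ⊔ Submodule.span F {f} with hH
    have hHR : H ≤ R₂ := sup_le ((Submodule.span_singleton_le_iff_mem _ _).2 he)
      ((Submodule.span_singleton_le_iff_mem _ _).2 hf)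
    have hfe : B f e ≠ 0 := by rw [hB.neg]; exact neg_ne_zero.2 hef
    have hHN : Nd B H := by
      intro v hv h0
      obtain ⟨x, hx, y, hy, rfl⟩ := Submodule.mem_sup.1 hv
      obtain ⟨a, rfl⟩ := Submodule.mem_span_singleton.1 hx
      obtain ⟨b, rfl⟩ := Submodule.mem_span_singleton.1 hy
      have k1 := h0 e (Submodule.mem_sup_left (Submodule.mem_span_singleton_self _))
      have k2 := h0 f (Submodule.mem_sup_right (Submodule.mem_span_singleton_self _))
      simp only [map_add, map_smul, LinearMap.add_apply, LinearMap.smul_apply, hB e, hB f, smul_eq_mul, mul_zero,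
        zero_add, add_zero, mul_eq_zero] at k1 k2
      rw [k1.resolve_right hfe, k2.resolve_right hef, zero_smul, zero_smul, add_zero]
    have hH2 : Module.finrank F H = 2 := by
      have h9 := Submodule.finrank_sup_add_finrank_inf_eq (Submodule.span F {e}) (Submodule.span F {f})
      have hf0 : f ≠ 0 := by rintro rfl; simp at hef
      have h10 : Submodule.span F {e} ⊓ Submodule.span F {f} = ⊥ := by
        rw [eq_bot_iff]
        rintro v ⟨hv1, hv2⟩
        obtain ⟨a, rfl⟩ := Submodule.mem_span_singleton.1 hv1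
        obtain ⟨b, hb⟩ := Submodule.mem_span_singleton.1 hv2
        have h11 : B (b • f) f = 0 := by rw [map_smul, LinearMap.smul_apply, hB f, smul_zero]
        rw [hb, map_smul, LinearMap.smul_apply, smul_eq_mul, mul_eq_zero] at h11
        rw [Submodule.mem_bot, h11.resolve_right hef, zero_smul]
      rw [h10, finrank_bot, finrank_span_singleton he0, finrank_span_singleton hf0, ← hH] at h9
      omega
    have hRH : Orth B R₁ H := fun x hx y hy => h5 x hx y (hHR hy)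
    refine ⟨R₁ ⊔ H, sup_le h1 (hHR.trans h4), Nd.sup hB hRH h2 hHN, ?_⟩
    rw [finrank_sup_of_orth hB hRH h2 le_rfl le_rfl, h3, hH2]
    ring

end FD

end Cfsg.Agent.H144.War
end
end

-- part: H144/War/Xi
section
/-!
# Elements killed by the minimal polynomial of `ξ = ζ ^ e`
-/

set_option autoImplicit false
open Polynomial

noncomputable section

namespace Cfsg.Agent.H144.War

variable {F V : Type*} [Field F] [AddCommGroup V] [Module F V]

section

variable {K : Type*} [Field K] [Algebra F K]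

theorem aeval_eq_zero_of_root {ξ : K} {X : Module.End F V} (hX : aeval X (minpoly F ξ) = 0) {r : F[X]}
    (hr : aeval ξ r = 0) : aeval X r = 0 := by
  obtain ⟨t, rfl⟩ := minpoly.dvd F ξ hr
  rw [map_mul, hX, zero_mul]

theorem injective_of_not_root [FiniteDimensional F K] {ξ : K} {X : Module.End F V}
    (hX : aeval X (minpoly F ξ) = 0) {r : F[X]}
    (hr : aeval ξ r ≠ 0) (v : V) (hv : aeval X r v = 0) : v = 0 := by
  have hirr := minpoly.irreducible (Algebra.IsIntegral.isIntegral (R := F) ξ)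
  have hcop : IsCoprime (minpoly F ξ) r := by
    rw [hirr.coprime_iff_not_dvd]
    rintro ⟨t, rfl⟩
    apply hr
    rw [map_mul, minpoly.aeval, zero_mul]
  obtain ⟨a, b, hab⟩ := hcop
  have h1 : aeval X (a * minpoly F ξ + b * r) v = v := by rw [hab]; simp only [_root_.map_one, _root_.Module.End.one_apply]
  rw [map_add, map_mul, map_mul, hX, mul_zero, zero_add, Module.End.mul_apply, hv, map_zero] at h1
  exact h1.symm

theorem exists_poly [FiniteDimensional F K] {ξ : K} (h : (minpoly F ξ).natDegree = Module.finrank F K) (y : K) :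
    ∃ r : F[X], aeval ξ r = y := by
  rcases Nat.eq_zero_or_pos (minpoly F ξ).natDegree with h0 | hpos
  · have := minpoly.natDegree_pos (Algebra.IsIntegral.isIntegral (R := F) ξ)
    omega
  have hli : LinearIndependent F (fun i : Fin (minpoly F ξ).natDegree => ξ ^ (i : ℕ)) :=
    linearIndependent_pow ξ
  have hspan := hli.span_eq_top_of_card_eq_finrank' (by rw [Fintype.card_fin, h])
  have hy : y ∈ Submodule.span F (Set.range (fun i : Fin (minpoly F ξ).natDegree => ξ ^ (i : ℕ))) := by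
    rw [hspan]; trivial
  refine Submodule.span_induction (p := fun y _ => ∃ r : F[X], aeval ξ r = y) ?_ ?_ ?_ ?_ hy
  · rintro _ ⟨i, rfl⟩
    exact ⟨X ^ (i : ℕ), by simp⟩
  · exact ⟨0, by simp⟩
  · rintro _ _ _ _ ⟨r, rfl⟩ ⟨t, rfl⟩
    exact ⟨r + t, by simp only [_root_.map_add]⟩
  · rintro c _ _ ⟨r, rfl⟩
    exact ⟨C c * r, by rw [map_mul, aeval_C, Algebra.smul_def]⟩

/-- a unit of the endomorphism ring from a power -/
def ofPow (d : Module.End F V) (N : ℕ) (hN : 0 < N) (hd : d ^ N = 1) : V ≃ₗ[F] V :=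
  LinearEquiv.ofLinearMap d (d ^ (N - 1))
    (by
      have : d * d ^ (N - 1) = 1 := by rw [← pow_succ', Nat.sub_add_cancel hN, hd]
      exact this)
    (by
      have : d ^ (N - 1) * d = 1 := by rw [← pow_succ, Nat.sub_add_cancel hN, hd]
      exact this)

theorem ofPow_pow (d : Module.End F V) (N : ℕ) (hN : 0 < N) (hd : d ^ N = 1) (k : ℕ) (v : V) :
    ((ofPow d N hN hd) ^ k) v = (d ^ k) v := by
  induction k generalizing v with
  | zero => simp
  | succ k ih => rw [pow_succ, LinearEquiv.mul_apply, pow_succ, Module.End.mul_apply, ih]; rfl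

theorem sing_of_aeval [FiniteDimensional F K] {ξ : K} (hξ : ξ ≠ 0)
    (hdeg : (minpoly F ξ).natDegree = Module.finrank F K) (h1 : aeval ξ⁻¹ (minpoly F ξ) ≠ 0)
    (h2 : aeval ξ (minpoly F ξ⁻¹) ≠ 0) {X : V ≃ₗ[F] V} (hX : aeval (X : Module.End F V) (minpoly F ξ) = 0) :
    Sing X (minpoly F ξ) (minpoly F ξ⁻¹) := by
  obtain ⟨r, hr⟩ := exists_poly hdeg ξ⁻¹
  have hXi : ((X⁻¹ : V ≃ₗ[F] V) : Module.End F V) = aeval (X : Module.End F V) r := by
    have h3 : aeval (X : Module.End F V) (Polynomial.X * r - 1) = 0 := by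
      apply aeval_eq_zero_of_root hX
      rw [map_sub, map_mul, aeval_X, hr, map_one, mul_inv_cancel₀ hξ, sub_self]
    rw [map_sub, map_mul, aeval_X, map_one, sub_eq_zero] at h3
    ext v
    have h4 := LinearMap.congr_fun h3 v
    rw [Module.End.mul_apply, Module.End.one_apply] at h4
    change X⁻¹ v = _
    nth_rewrite 1 [← h4]
    exact inv_app X _
  have hcomp : ∀ f : F[X], aeval ((X⁻¹ : V ≃ₗ[F] V) : Module.End F V) f = aeval (X : Module.End F V) (f.comp r) := by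
    intro f
    rw [hXi, aeval_comp]
  have hev : ∀ f : F[X], aeval ξ (f.comp r) = aeval ξ⁻¹ f := by
    intro f
    rw [aeval_comp, hr]
  refine ⟨fun v => by rw [hX]; rfl, fun v hv => ?_, fun v => ?_, fun v hv => injective_of_not_root hX h2 v hv⟩
  · rw [hcomp] at hv
    exact injective_of_not_root hX (by rw [hev]; exact h1) v hv
  · rw [hcomp, aeval_eq_zero_of_root hX (by rw [hev]; exact minpoly.aeval F _)]
    rfl

theorem ep_of_aeval [FiniteDimensional F K] {ζ : K} (hζ : ζ ≠ 0) {p e N : ℕ} (hN : 0 < N) (hNp : N.Coprime p)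
    (hζN : ζ ^ N = 1)
    (hdeg : (minpoly F (ζ ^ e)).natDegree = Module.finrank F K) (h1 : aeval (ζ ^ e)⁻¹ (minpoly F (ζ ^ e)) ≠ 0)
    (h2 : aeval (ζ ^ e) (minpoly F (ζ ^ e)⁻¹) ≠ 0) {X : V ≃ₗ[F] V}
    (hX : aeval (X : Module.End F V) (minpoly F (ζ ^ e)) = 0) : EP p e X := by
  obtain ⟨r, hr⟩ := exists_poly hdeg ζ
  have hrN : (aeval (X : Module.End F V) r) ^ N = 1 := by
    have h3 : aeval (X : Module.End F V) (r ^ N - 1) = 0 := by
      apply aeval_eq_zero_of_root hX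
      rw [map_sub, map_pow, hr, hζN, map_one, sub_self]
    rw [map_sub, map_pow, map_one, sub_eq_zero] at h3
    exact h3
  have hre : (aeval (X : Module.End F V) r) ^ e = (X : Module.End F V) := by
    have h3 : aeval (X : Module.End F V) (r ^ e - Polynomial.X) = 0 := by
      apply aeval_eq_zero_of_root hX
      rw [map_sub, map_pow, hr, aeval_X, sub_self]
    rw [map_sub, map_pow, aeval_X, sub_eq_zero] at h3
    exact h3
  refine ⟨⟨ofPow _ N hN hrN, N, hNp, ?_, ?_⟩, _, _, sing_of_aeval (pow_ne_zero e hζ) hdeg h1 h2 hX⟩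
  · ext v
    rw [ofPow_pow, hrN]
    rfl
  · ext v
    rw [ofPow_pow, hre]
    rfl

end

theorem coprime_card_pow_sub_one [Finite F] {p : ℕ} [hp : CharP F p] {s : ℕ} (hs : s ≠ 0) :
    (Nat.card F ^ s - 1).Coprime p := by
  have hpp : p.Prime := (CharP.char_is_prime_or_zero F p).resolve_right (by
    have := CharP.char_ne_zero_of_finite F p
    exact this)
  have : Fintype F := Fintype.ofFinite F
  obtain ⟨n, -, hn⟩ := FiniteField.card F p
  rw [Nat.coprime_comm, hpp.coprime_iff_not_dvd]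
  intro hd
  have h1 : p ∣ Nat.card F ^ s := by
    rw [Nat.card_eq_fintype_card, hn, ← pow_mul]
    exact dvd_pow_self p (mul_ne_zero n.pos.ne' hs)
  have h2 : 1 ≤ Nat.card F ^ s := Nat.one_le_pow _ _ Nat.card_pos
  have h3 : p ∣ 1 := by
    have := Nat.dvd_sub h1 hd
    rwa [Nat.sub_sub_self h2] at this
  exact hpp.one_lt.ne' (Nat.dvd_one.1 h3)

/-- **the form to be used** : `ζ` as in `ExistsXi` -/
theorem ep_of_aeval' [Finite F] {p e s : ℕ} [CharP F p] (hs : s ≠ 0) (hq : 1 < Nat.card F ^ s)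
    {K : Type*} [Field K] [Algebra F K] [FiniteDimensional F K] (hK : Module.finrank F K = s) {ζ : K} (hζ : ζ ≠ 0)
    (hζN : ζ ^ (Nat.card F ^ s - 1) = 1) (hdeg : (minpoly F (ζ ^ e)).natDegree = s)
    (h1 : aeval (ζ ^ e)⁻¹ (minpoly F (ζ ^ e)) ≠ 0) (h2 : aeval (ζ ^ e) (minpoly F (ζ ^ e)⁻¹) ≠ 0) {X : V ≃ₗ[F] V}
    (hX : aeval (X : Module.End F V) (minpoly F (ζ ^ e)) = 0) : EP p e X :=
  ep_of_aeval hζ (by omega) (coprime_card_pow_sub_one hs) hζN (by rw [hdeg, hK]) h1 h2 hX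

end Cfsg.Agent.H144.War
end
end

-- part: H144/War/Mix
section
/-!
# The corner `diag(1_a, -1_b)`, `b` even, and the corner `1`
-/

set_option autoImplicit false
open Polynomial

noncomputable section

namespace Cfsg.Agent.H144.War

section

variable {F V M : Type*} [Field F] [AddCommGroup V] [Module F V] [AddCommGroup M] [Module F M]
  [FiniteDimensional F V] [FiniteDimensional F M]

theorem exists_conj_of_split {U₁ U₂ : Submodule F V} (hU : IsCompl U₁ U₂) {E₁ E₂ : Submodule F M}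
    (hE : IsCompl E₁ E₂) (h1 : Module.finrank F U₁ = Module.finrank F E₁)
    (h2 : Module.finrank F U₂ = Module.finrank F E₂) {A : V ≃ₗ[F] V} {A' : M ≃ₗ[F] M} {c₁ c₂ : F}
    (hA₁ : ∀ v ∈ U₁, A v = c₁ • v) (hA₂ : ∀ v ∈ U₂, A v = c₂ • v)
    (hA'₁ : ∀ v ∈ E₁, A' v = c₁ • v) (hA'₂ : ∀ v ∈ E₂, A' v = c₂ • v) :
    ∃ φ : V ≃ₗ[F] M, ∀ v, φ (A v) = A' (φ v) := by
  let e₁ : U₁ ≃ₗ[F] E₁ := LinearEquiv.ofFinrankEq _ _ h1
  let e₂ : U₂ ≃ₗ[F] E₂ := LinearEquiv.ofFinrankEq _ _ h2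
  let S := Submodule.prodEquivOfIsCompl U₁ U₂ hU
  let T := Submodule.prodEquivOfIsCompl E₁ E₂ hE
  have hS : ∀ (p : U₁) (q : U₂), S.symm (p + q) = (p, q) := by
    intro p q
    rw [S.symm_apply_eq]
    rfl
  let φ : V ≃ₗ[F] M := S.symm.trans ((e₁.prodCongr e₂).trans T)
  have hφ : ∀ (p : U₁) (q : U₂), φ (p + q) = e₁ p + e₂ q := by
    intro p q
    change T ((e₁.prodCongr e₂) (S.symm (p + q))) = _
    rw [hS]
    rfl
  refine ⟨φ, fun v => ?_⟩
  obtain ⟨p, hp, q, hq, rfl⟩ := mem_sup_top hU.sup_eq_top v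
  have h3 : A (p + q) = ((c₁ • (⟨p, hp⟩ : U₁) : U₁) : V) + ((c₂ • (⟨q, hq⟩ : U₂) : U₂) : V) := by
    rw [map_add, hA₁ p hp, hA₂ q hq]; rfl
  rw [h3, hφ]
  have h4 := hφ ⟨p, hp⟩ ⟨q, hq⟩
  simp only at h4
  rw [h4, map_add, hA'₁ _ (e₁ ⟨p, hp⟩).2, hA'₂ _ (e₂ ⟨q, hq⟩).2, map_smul, map_smul]
  rfl

omit [FiniteDimensional F V] in
/-- `A = ε` on `W` and `A = -ε` modulo `W` -/
theorem isCompl_of_mod (h2 : (2 : F) ≠ 0) {A : V ≃ₗ[F] V} {ε : F} (hε : ε * ε = 1) {W : Submodule F V}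
    (h1 : ∀ v ∈ W, A v = ε • v) (h3 : ∀ v, A v + ε • v ∈ W) :
    ∃ E : Submodule F V, IsCompl W E ∧ ∀ v ∈ E, A v = -ε • v := by
  let E : Submodule F V := LinearMap.ker ((A : V →ₗ[F] V) + ε • LinearMap.id)
  have hE : ∀ v, v ∈ E ↔ A v = -ε • v := by
    intro v
    rw [LinearMap.mem_ker, neg_smul, ← add_eq_zero_iff_eq_neg]
    rfl
  have hε0 : ε ≠ 0 := by rintro rfl; simp at hε
  have hAA : ∀ v, A (A v) = v := by
    intro v
    have h4 := h1 _ (h3 v)
    rw [map_add, map_smul, smul_add, smul_smul, hε, one_smul] at h4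
    have h5 : A (A v) + ε • A v = v + ε • A v := by rw [h4]; abel
    exact add_right_cancel h5
  refine ⟨E, ⟨?_, ?_⟩, fun v hv => (hE v).1 hv⟩
  · rw [Submodule.disjoint_def]
    intro v hv hv'
    have h4 := h1 v hv
    rw [(hE v).1 hv'] at h4
    have h5 : (2 * ε) • v = 0 := by
      rw [two_mul, add_smul]
      nth_rewrite 1 [← h4]
      rw [neg_smul, neg_add_cancel]
    exact (smul_eq_zero.1 h5).resolve_left (mul_ne_zero h2 hε0)
  · rw [codisjoint_iff, eq_top_iff]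
    intro v _
    have h4 : A v - ε • v ∈ E := by
      rw [hE, map_sub, map_smul, hAA, smul_sub, smul_smul, neg_mul, hε]
      module
    have h5 : v = (2 * ε)⁻¹ • (A v + ε • v) + (-(2 * ε)⁻¹) • (A v - ε • v) := by
      have h6 : (2 * ε)⁻¹ * ε * 2 = 1 := by
        field_simp
      have h7 : (2 * ε)⁻¹ • (A v + ε • v) + (-(2 * ε)⁻¹) • (A v - ε • v) = ((2 * ε)⁻¹ * ε * 2) • v := by
        module
      rw [h7, h6, one_smul]
    rw [h5]
    exact Submodule.add_mem_sup (W.smul_mem _ (h3 v)) (E.smul_mem _ h4)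

end

section

variable {F K : Type*} [Field F] [Field K] [Algebra F K]

/-- multiplication by `ξ` -/
def mu (F : Type*) {K : Type*} [Field F] [Field K] [Algebra F K] (ξ : K) (hξ : ξ ≠ 0) : K ≃ₗ[F] K :=
  LinearEquiv.ofLinearMap (LinearMap.mulLeft F ξ) (LinearMap.mulLeft F ξ⁻¹)
    (by ext v; simp [mul_inv_cancel_left₀ hξ]) (by ext v; simp [inv_mul_cancel_left₀ hξ])

theorem mu_apply (ξ : K) (hξ : ξ ≠ 0) (v : K) : mu F ξ hξ v = ξ * v := rfl

theorem aeval_mu (ξ : K) (hξ : ξ ≠ 0) : aeval ((mu F ξ hξ : K ≃ₗ[F] K) : Module.End F K) (minpoly F ξ) = 0 := by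
  ext v
  rw [aeval_smul ξ _ (fun v => mu_apply ξ hξ v), minpoly.aeval, zero_smul]
  rfl

end

variable {F V : Type} [Field F] [Finite F] [AddCommGroup V] [Module F V] [FiniteDimensional F V]

theorem fac_one (hXi : ExistsXi) {p e s : ℕ} [CharP F p] (hs : 2 ≤ s) (he : 1 ≤ e)
    (hnum : e * (Nat.card F ^ (s / 2) + 1) < Nat.card F ^ s - 1) (hV : Module.finrank F V = s) :
    Fac p e (1 : V ≃ₗ[F] V) := by
  obtain ⟨K, _, _, _, hK, ζ, hζ, hζN, hdeg, h1, h2⟩ := hXi F hs he hnum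
  have hep : EP p e (mu F (ζ ^ e) (pow_ne_zero e hζ)) :=
    ep_of_aeval' (by omega) (by omega) hK hζ hζN hdeg h1 h2 (aeval_mu _ _)
  let φ : V ≃ₗ[F] K := LinearEquiv.ofFinrankEq _ _ (by rw [hV, hK])
  exact Fac.conj ⟨_, _, hep, hep.inv, fun v => (app_inv _ v).symm⟩ φ (A := 1) (fun v => rfl)

theorem fac_mix (hE : MixCore) (hXi : ExistsXi) (h2 : (2 : F) ≠ 0) {p e a b : ℕ} [CharP F p] (ha : 1 ≤ a)
    (hb : Even b) (hab : 2 ≤ a + b) (he : 1 ≤ e)
    (hnum : e * (Nat.card F ^ ((a + b) / 2) + 1) < Nat.card F ^ (a + b) - 1) (hV : Module.finrank F V = a + b)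
    {U W : Submodule F V} (hU : Module.finrank F U = a) (hW : Module.finrank F W = b) (hUW : U ⊔ W = ⊤)
    {A : V ≃ₗ[F] V} (hA1 : ∀ v ∈ U, A v = v) (hA2 : ∀ v ∈ W, A v = -v) : Fac p e A := by
  have hcU : IsCompl U W := by
    refine ⟨?_, codisjoint_iff.2 hUW⟩
    rw [disjoint_iff, ← Submodule.finrank_eq_zero (R := F)]
    have h3 := Submodule.finrank_sup_add_finrank_inf_eq U W
    rw [hUW, finrank_top, hV, hU, hW] at h3
    omega
  rcases Nat.eq_zero_or_pos b with hb0 | hbpos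
  · subst hb0
    have hW0 : W = ⊥ := Submodule.finrank_eq_zero.1 hW
    rw [hW0, sup_bot_eq] at hUW
    have h3 : A = 1 := by
      ext v
      exact hA1 v (by rw [hUW]; trivial)
    rw [h3]
    exact fac_one hXi (by omega) he hnum hV
  obtain ⟨K, _, _, _, hK, ζ, hζ, hζN, hdeg, h1, h1'⟩ := hXi F hab he hnum
  have hξ := pow_ne_zero e hζ
  have hep : EP p e (mu F (ζ ^ e) hξ) :=
    ep_of_aeval' (by omega) (by omega) hK hζ hζN hdeg h1 h1' (aeval_mu _ _)
  have finE : ∀ {W' E : Submodule F K} {w : ℕ}, IsCompl W' E → Module.finrank F W' = w →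
      Module.finrank F E = a + b - w := by
    intro W' E w hc hw
    have := Submodule.finrank_add_eq_of_isCompl hc
    rw [hK, hw] at this
    (clear * - this; omega)
  have hmi : ∀ v : K, (mu F (ζ ^ e) hξ)⁻¹ v = (ζ ^ e)⁻¹ * v := fun v => rfl
  rcases Nat.lt_or_ge (a + 1) b with hlt | hge
  · -- `b > a + 1` : use `-A`
    set g := minpoly F (ζ ^ e) with hg
    have hgm : g.Monic := minpoly.monic (Algebra.IsIntegral.isIntegral (R := F) (ζ ^ e))
    obtain ⟨X, W', hXf, hW', hX1, hX2⟩ := hE (r := b) (c := a) ha (by omega) (by rw [hK]; ring) hξ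
      (by rw [← hg, hdeg]; ring) (f := (-1) ^ (a + b) * g.comp (-Polynomial.X))
      (by
        have := hgm.neg_one_pow_natDegree_mul_comp_neg_X
        rwa [hdeg] at this)
      (by
        have h3 : ((-1 : F[X]) ^ (a + b)) = C ((-1) ^ (a + b)) := by simp only [_root_.map_pow, _root_.map_neg, _root_.map_one]
        rw [h3, natDegree_C_mul (pow_ne_zero _ (neg_ne_zero.2 one_ne_zero)), natDegree_comp, natDegree_neg,
          natDegree_X, mul_one, hdeg, add_comm])
      (by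
        have h3 : ((-1 : F[X]) ^ (a + b)) = C ((-1) ^ (a + b)) := by simp only [_root_.map_pow, _root_.map_neg, _root_.map_one]
        rw [h3, coeff_C_mul, coeff_zero_eq_eval_zero, coeff_zero_eq_eval_zero, eval_comp, eval_neg, eval_X, neg_zero,
          pow_add, hb.neg_one_pow, mul_one])
    have hepX : EP p e (ng X) := by
      apply ep_of_aeval' (K := K) (by omega) (by omega) hK hζ hζN hdeg h1 h1'
      have h3 : ((ng X : K ≃ₗ[F] K) : Module.End F K) = aeval (X : Module.End F K) (-Polynomial.X : F[X]) := by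
        rw [map_neg, aeval_X]
        ext v
        rfl
      rw [map_mul] at hXf
      rw [h3, ← aeval_comp]
      have h4 : aeval (X : Module.End F K) ((-1 : F[X]) ^ (a + b)) * aeval (X : Module.End F K) ((-1 : F[X]) ^ (a + b))
          = 1 := by
        rw [← map_mul, ← mul_pow]
        simp
      calc aeval (X : Module.End F K) (g.comp (-Polynomial.X))
          = (aeval (X : Module.End F K) ((-1 : F[X]) ^ (a + b)) * aeval (X : Module.End F K) ((-1 : F[X]) ^ (a + b))) *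
            aeval (X : Module.End F K) (g.comp (-Polynomial.X)) := by rw [h4, one_mul]
        _ = 0 := by rw [mul_assoc, hXf, mul_zero]
    have hA' : ∀ v : K, (ng X * (mu F (ζ ^ e) hξ)⁻¹) v = - X ((ζ ^ e)⁻¹ * v) := fun v => rfl
    have k1 : ∀ v ∈ W', (ng X * (mu F (ζ ^ e) hξ)⁻¹) v = (-1 : F) • v := by
      intro v hv
      rw [hA', hX1 _ (by rw [mul_inv_cancel_left₀ hξ]; exact hv), mul_inv_cancel_left₀ hξ, neg_one_smul]
    have k2 : ∀ v, (ng X * (mu F (ζ ^ e) hξ)⁻¹) v + (-1 : F) • v ∈ W' := by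
      intro v
      have h3 := W'.neg_mem (hX2 ((ζ ^ e)⁻¹ * v))
      rw [mul_inv_cancel_left₀ hξ] at h3
      rw [hA', neg_one_smul, ← neg_add]
      exact h3
    obtain ⟨E, hcE, hEv⟩ := isCompl_of_mod h2 (by ring) k1 k2
    have hfE := finE hcE hW'
    obtain ⟨φ, hφ⟩ := exists_conj_of_split hcU hcE.symm (by rw [hU, hfE]; (clear * -; omega)) (by rw [hW, hW']) (A := A) (c₁ := 1)
      (c₂ := -1) (fun v hv => by rw [one_smul, hA1 v hv]) (fun v hv => by rw [neg_one_smul, hA2 v hv])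
      (fun v hv => by rw [hEv v hv, neg_neg]) k1
    exact Fac.conj ⟨_, _, hepX, hep.inv, fun v => rfl⟩ φ hφ
  · obtain ⟨X, W', hXf, hW', hX1, hX2⟩ := hE (r := a) (c := b) hbpos (by omega) (by rw [hK]) hξ
      (by rw [hdeg]) (f := minpoly F (ζ ^ e))
      (minpoly.monic (Algebra.IsIntegral.isIntegral (R := F) (ζ ^ e))) hdeg (by rw [hb.neg_one_pow, one_mul])
    have hepX : EP p e X := ep_of_aeval' (K := K) (by omega) (by omega) hK hζ hζN hdeg h1 h1' hXf
    have hA' : ∀ v : K, (X * (mu F (ζ ^ e) hξ)⁻¹) v = X ((ζ ^ e)⁻¹ * v) := fun v => rfl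
    have k1 : ∀ v ∈ W', (X * (mu F (ζ ^ e) hξ)⁻¹) v = (1 : F) • v := by
      intro v hv
      rw [hA', hX1 _ (by rw [mul_inv_cancel_left₀ hξ]; exact hv), mul_inv_cancel_left₀ hξ, one_smul]
    have k2 : ∀ v, (X * (mu F (ζ ^ e) hξ)⁻¹) v + (1 : F) • v ∈ W' := by
      intro v
      have h3 := hX2 ((ζ ^ e)⁻¹ * v)
      rw [mul_inv_cancel_left₀ hξ] at h3
      rw [hA', one_smul]
      exact h3
    obtain ⟨E, hcE, hEv⟩ := isCompl_of_mod h2 (by ring) k1 k2
    have hfE := finE hcE hW'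
    obtain ⟨φ, hφ⟩ := exists_conj_of_split hcU hcE (by rw [hU, hW']) (by rw [hW, hfE]; (clear * -; omega)) (A := A) (c₁ := 1)
      (c₂ := -1) (fun v hv => by rw [one_smul, hA1 v hv]) (fun v hv => by rw [neg_one_smul, hA2 v hv])
      k1 hEv
    exact Fac.conj ⟨_, _, hepX, hep.inv, fun v => rfl⟩ φ hφ

end Cfsg.Agent.H144.War
end
end

-- part: H144/War/MixEng
section
/-!
# The engine for mixed corners, orthogonal sums
-/

set_option autoImplicit false
open Polynomial

noncomputable section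

namespace Cfsg.Agent.H144.War

section

variable {F V : Type*} [Field F] [AddCommGroup V] [Module F V]

theorem Mix.ng {B : LinearMap.BilinForm F V} {g : V ≃ₗ[F] V} {a b : ℕ} {R : Submodule F V} (h : Mix B g a b R) :
    Mix B (ng g) b a R := by
  obtain ⟨U, W, Q, h1, h2, h3, h4, h5, h6, h7⟩ := h
  refine ⟨W, U, Q, ?_, h2, ?_, h5, h4, fun v hv => ?_, fun v hv => ?_⟩
  · rw [sup_comm]; exact h1
  · rw [sup_comm W U]; exact h3
  · have := Q.neg_mem (h7 v hv)
    rwa [neg_add, ← sub_eq_add_neg] at this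
  · have := Q.neg_mem (h6 v hv)
    rw [ng_apply]
    rwa [neg_sub, sub_eq_neg_add] at this

variable [FiniteDimensional F V]

theorem Mix.sup {B : LinearMap.BilinForm F V} (hB : Alt B) {g : V ≃ₗ[F] V} {a b a' b' : ℕ} {R S : Submodule F V}
    (hRS : Orth B R S) (hR : Nd B R) (h : Mix B g a b R) (h' : Mix B g a' b' S) : Mix B g (a + a') (b + b') (R ⊔ S) := by
  obtain ⟨U, W, Q, h1, h2, h3, h4, h5, h6, h7⟩ := h
  obtain ⟨U', W', Q', h1', h2', h3', h4', h5', h6', h7'⟩ := h'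
  have hUWR : U ⊔ W ≤ R := by rw [← h3]; exact le_sup_left
  have hQR : Q ≤ R := by rw [← h3]; exact le_sup_right
  have hUWS : U' ⊔ W' ≤ S := by rw [← h3']; exact le_sup_left
  have hQS : Q' ≤ S := by rw [← h3']; exact le_sup_right
  refine ⟨U ⊔ U', W ⊔ W', Q ⊔ Q', ?_, ?_, ?_, ?_, ?_, ?_, ?_⟩
  · rw [sup_sup_sup_comm]
    exact isotropic_sup hB h1 h1' (fun x hx y hy => hRS x (hUWR hx) y (hUWS hy))
  · exact isotropic_sup hB h2 h2' (fun x hx y hy => hRS x (hQR hx) y (hQS hy))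
  · rw [← h3, ← h3', sup_sup_sup_comm U, sup_sup_sup_comm (U ⊔ W)]
  · rw [finrank_sup_of_orth hB hRS hR (le_sup_left.trans hUWR) (le_sup_left.trans hUWS), h4, h4']
  · rw [finrank_sup_of_orth hB hRS hR (le_sup_right.trans hUWR) (le_sup_right.trans hUWS), h5, h5']
  · intro v hv
    obtain ⟨x, hx, y, hy, rfl⟩ := Submodule.mem_sup.1 hv
    have : g (x + y) - (x + y) = (g x - x) + (g y - y) := by rw [map_add]; abel
    rw [this]
    exact Submodule.add_mem_sup (h6 x hx) (h6' y hy)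
  · intro v hv
    obtain ⟨x, hx, y, hy, rfl⟩ := Submodule.mem_sup.1 hv
    have : g (x + y) + (x + y) = (g x + x) + (g y + y) := by rw [map_add]; abel
    rw [this]
    exact Submodule.add_mem_sup (h7 x hx) (h7' y hy)

theorem mix_of_c1On {B : LinearMap.BilinForm F V} (hB : Alt B) {g : V ≃ₗ[F] V} {a : ℕ} {R : Submodule F V} (hR : Nd B R)
    (ha : Module.finrank F R = 2 * a) (h : C1On B g R) : Mix B g a 0 R := by
  obtain ⟨P, Q, h1, h2, h3, h4⟩ := h
  have h5 := finrank_lag hB hR h1 h2 h3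
  refine ⟨P, ⊥, Q, by rw [sup_bot_eq]; exact h1, h2, by rw [sup_bot_eq]; exact h3, by omega, finrank_bot F V, h4, ?_⟩
  intro v hv
  rw [Submodule.mem_bot] at hv
  rw [hv, map_zero, add_zero]
  exact Q.zero_mem

theorem mix_restrict {B : LinearMap.BilinForm F V} {g : V ≃ₗ[F] V} {a b : ℕ} {R : Submodule F V} (hI : Inv g R)
    (h : Mix B g a b R) : Mix (B.restrict R) (gr g R hI) a b ⊤ := by
  obtain ⟨U, W, Q, h1, h2, h3, h4, h5, h6, h7⟩ := h
  have hUWR : U ⊔ W ≤ R := by rw [← h3]; exact le_sup_left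
  have hUR : U ≤ R := le_sup_left.trans hUWR
  have hWR : W ≤ R := le_sup_right.trans hUWR
  have hQR : Q ≤ R := by rw [← h3]; exact le_sup_right
  have hle : U.comap R.subtype ⊔ W.comap R.subtype ≤ (U ⊔ W).comap R.subtype :=
    sup_le (Submodule.comap_mono le_sup_left) (Submodule.comap_mono le_sup_right)
  refine ⟨U.comap R.subtype, W.comap R.subtype, Q.comap R.subtype, fun x hx y hy => h1 x (hle hx) y (hle hy),
    fun x hx y hy => h2 x hx y hy, ?_, ?_, ?_, fun v hv => h6 v hv, fun v hv => h7 v hv⟩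
  · rw [eq_top_iff]
    intro v _
    have hv : (v : V) ∈ U ⊔ W ⊔ Q := by rw [h3]; exact v.2
    obtain ⟨x, hx, q, hq, hxq⟩ := Submodule.mem_sup.1 hv
    obtain ⟨u, hu, w, hw, huw⟩ := Submodule.mem_sup.1 hx
    have e1 : v = (⟨u, hUR hu⟩ : R) + ⟨w, hWR hw⟩ + ⟨q, hQR hq⟩ := Subtype.ext (by
      change (v : V) = u + w + q
      rw [huw, hxq])
    rw [e1]
    exact Submodule.add_mem_sup (Submodule.add_mem_sup hu hw) hq
  · rw [(Submodule.comapSubtypeEquivOfLe hUR).finrank_eq, h4]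
  · rw [(Submodule.comapSubtypeEquivOfLe hWR).finrank_eq, h5]

/-! ### orthogonal sums -/

theorem prodCongr_pow {M N : Type*} [AddCommGroup M] [Module F M] [AddCommGroup N] [Module F N] (x : M ≃ₗ[F] M)
    (y : N ≃ₗ[F] N) (k : ℕ) : (x.prodCongr y) ^ k = (x ^ k).prodCongr (y ^ k) := by
  induction k with
  | zero => ext v <;> simp only [_root_.pow_zero, _root_.LinearEquiv.coe_one, _root_.id_eq, _root_.LinearEquiv.prodCongr_apply, _root_.Prod.mk.eta]
  | succ k ih =>
    rw [pow_succ, ih, pow_succ, pow_succ]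
    ext v <;> simp only [LinearEquiv.mul_apply, _root_.LinearEquiv.prodCongr_apply]

/-- the direct sum of two automorphisms -/
def ds {R S : Submodule F V} (h : IsCompl R S) (x : R ≃ₗ[F] R) (y : S ≃ₗ[F] S) : V ≃ₗ[F] V :=
  tr (Submodule.prodEquivOfIsCompl R S h).symm (x.prodCongr y)

theorem ds_apply {R S : Submodule F V} (h : IsCompl R S) (x : R ≃ₗ[F] R) (y : S ≃ₗ[F] S) (r : R) (s : S) :
    ds h x y (r + s) = x r + y s := by
  have hE : ∀ (p : R) (q : S), (Submodule.prodEquivOfIsCompl R S h).symm (p + q) = (p, q) := by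
    intro p q
    rw [LinearEquiv.symm_apply_eq]
    rfl
  rw [ds, tr_apply, hE]
  rfl

theorem ds_pow {R S : Submodule F V} (h : IsCompl R S) (x : R ≃ₗ[F] R) (y : S ≃ₗ[F] S) (k : ℕ) :
    ds h x y ^ k = ds h (x ^ k) (y ^ k) := by
  rw [ds, ← tr_pow, prodCongr_pow]
  rfl

theorem ds_one {R S : Submodule F V} (h : IsCompl R S) : ds h 1 1 = 1 := by
  ext v
  obtain ⟨r, hr, s, hs, rfl⟩ := mem_sup_top h.sup_eq_top v
  have := ds_apply h 1 1 ⟨r, hr⟩ ⟨s, hs⟩
  simpa only [_root_.map_add, _root_.LinearEquiv.coe_one, _root_.id_eq] using this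

theorem ds_iso {B : LinearMap.BilinForm F V} (hB : Alt B) {R S : Submodule F V} (h : IsCompl R S)
    (hRS : Orth B R S) {x : R ≃ₗ[F] R} {y : S ≃ₗ[F] S} (hx : Iso (B.restrict R) x) (hy : Iso (B.restrict S) y) :
    Iso B (ds h x y) := by
  intro v w
  obtain ⟨p, hp, q, hq, rfl⟩ := mem_sup_top h.sup_eq_top v
  obtain ⟨p', hp', q', hq', rfl⟩ := mem_sup_top h.sup_eq_top w
  have h1 := ds_apply h x y ⟨p, hp⟩ ⟨q, hq⟩
  have h2 := ds_apply h x y ⟨p', hp'⟩ ⟨q', hq'⟩
  simp only at h1 h2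
  rw [h1, h2]
  simp only [map_add, LinearMap.add_apply]
  have h3 : B (x ⟨p, hp⟩ : V) (x ⟨p', hp'⟩ : V) = B p p' := hx ⟨p, hp⟩ ⟨p', hp'⟩
  have h4 : B (y ⟨q, hq⟩ : V) (y ⟨q', hq'⟩ : V) = B q q' := hy ⟨q, hq⟩ ⟨q', hq'⟩
  rw [hRS _ (x ⟨p, hp⟩).2 _ (y ⟨q', hq'⟩).2, hB.zero (hRS _ (x ⟨p', hp'⟩).2 _ (y ⟨q, hq⟩).2), hRS p hp q' hq',
    hB.zero (hRS p' hp' q hq), h3, h4]

theorem pw_sup {B : LinearMap.BilinForm F V} (hB : Alt B) {R S : Submodule F V} (hRS : Orth B R S) (hR : Nd B R)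
    (htop : R ⊔ S = ⊤) {p e : ℕ} {g : V ≃ₗ[F] V} (hIR : Inv g R) (hIS : Inv g S)
    (h : Pw (B.restrict R) p e (gr g R hIR)) (h' : Pw (B.restrict S) p e (gr g S hIS)) : Pw B p e g := by
  have hc : IsCompl R S := ⟨disjoint_of_orth hB hRS hR, codisjoint_iff.2 htop⟩
  obtain ⟨x, y, N, hx, hy, hN, hxN, hyN, hxy⟩ := h
  obtain ⟨x', y', N', hx', hy', hN', hxN', hyN', hxy'⟩ := h'
  refine ⟨ds hc x x', ds hc y y', N * N', ds_iso hB hc hRS hx hx', ds_iso hB hc hRS hy hy', Nat.Coprime.mul_left hN hN',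
    ?_, ?_, ?_⟩
  · rw [ds_pow, pow_mul, hxN, one_pow, mul_comm, pow_mul, hxN', one_pow, ds_one]
  · rw [ds_pow, pow_mul, hyN, one_pow, mul_comm, pow_mul, hyN', one_pow, ds_one]
  · ext v
    obtain ⟨r, hr, s, hs, rfl⟩ := mem_sup_top hc.sup_eq_top v
    rw [ds_pow, ds_pow, LinearEquiv.mul_apply]
    have h1 := ds_apply hc (y ^ e) (y' ^ e) ⟨r, hr⟩ ⟨s, hs⟩
    simp only at h1
    rw [h1, ds_apply, map_add]
    have h2 := congrArg (fun t : R ≃ₗ[F] R => (t ⟨r, hr⟩ : V)) hxy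
    have h3 := congrArg (fun t : S ≃ₗ[F] S => (t ⟨s, hs⟩ : V)) hxy'
    simp only [LinearEquiv.mul_apply] at h2 h3
    rw [← h2, ← h3]
    rfl

end

/-! ### the engine -/

variable {F V : Type} [Field F] [Finite F] [AddCommGroup V] [Module F V] [FiniteDimensional F V]

theorem pw_of_c1 (hXi : ExistsXi) {B : LinearMap.BilinForm F V} (hB : Alt B) (hN : Nond B) {p e s : ℕ} [CharP F p]
    (hs : 2 ≤ s) (he : 1 ≤ e) (hnum : e * (Nat.card F ^ (s / 2) + 1) < Nat.card F ^ s - 1)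
    (hV : Module.finrank F V = 2 * s) {g : V ≃ₗ[F] V} (hg : Iso B g) (h : C1 B g) : Pw B p e g := by
  obtain ⟨P, Q, hP, hQ, hPQ, hPg⟩ := h
  have h2 := finrank_two hB hN hP hQ hPQ
  exact pw_of_corner hB hN hP hQ hPQ (A := 1) (fac_one hXi hs he hnum (by omega)) hg (fun v => hPg v v.2)

theorem pw_of_mix (hE : MixCore) (hXi : ExistsXi) (h2 : (2 : F) ≠ 0) {B : LinearMap.BilinForm F V} (hB : Alt B)
    (hN : Nond B) {p e a b : ℕ} [CharP F p] (ha : 1 ≤ a) (hb : Even b) (hab : 2 ≤ a + b) (he : 1 ≤ e)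
    (hnum : e * (Nat.card F ^ ((a + b) / 2) + 1) < Nat.card F ^ (a + b) - 1)
    (hV : Module.finrank F V = 2 * (a + b)) {g : V ≃ₗ[F] V} (hg : Iso B g) (h : Mix B g a b ⊤) : Pw B p e g := by
  obtain ⟨U, W, Q, h1, h3, h4, h5, h6, h7, h8⟩ := h
  have h9 := finrank_two hB hN h1 h3 h4
  have hle : ∀ v : ↥(U ⊔ W), v ∈ U.comap (U ⊔ W).subtype ⊔ W.comap (U ⊔ W).subtype := by
    intro v
    obtain ⟨u, hu, w, hw, huw⟩ := Submodule.mem_sup.1 v.2
    have e1 : v = (⟨u, Submodule.mem_sup_left hu⟩ : ↥(U ⊔ W)) + ⟨w, Submodule.mem_sup_right hw⟩ := Subtype.ext huw.symm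
    rw [e1]
    exact Submodule.add_mem_sup hu hw
  have hU : Module.finrank F (U.comap (U ⊔ W).subtype) = a := by
    rw [(Submodule.comapSubtypeEquivOfLe le_sup_left).finrank_eq, h5]
  have hW : Module.finrank F (W.comap (U ⊔ W).subtype) = b := by
    rw [(Submodule.comapSubtypeEquivOfLe le_sup_right).finrank_eq, h6]
  have htop : U.comap (U ⊔ W).subtype ⊔ W.comap (U ⊔ W).subtype = ⊤ := eq_top_iff.2 (fun v _ => hle v)
  have hP : Module.finrank F ↥(U ⊔ W) = a + b := by omega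
  have hc : IsCompl (U.comap (U ⊔ W).subtype) (W.comap (U ⊔ W).subtype) := by
    refine ⟨?_, codisjoint_iff.2 htop⟩
    rw [disjoint_iff, ← Submodule.finrank_eq_zero (R := F)]
    have h3 := Submodule.finrank_sup_add_finrank_inf_eq (U.comap (U ⊔ W).subtype) (W.comap (U ⊔ W).subtype)
    rw [htop, finrank_top, hP, hU, hW] at h3
    omega
  let A : ↥(U ⊔ W) ≃ₗ[F] ↥(U ⊔ W) := ds hc 1 (LinearEquiv.neg F)
  have hA1 : ∀ v ∈ U.comap (U ⊔ W).subtype, A v = v := by
    intro v hv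
    have := ds_apply hc 1 (LinearEquiv.neg F) ⟨v, hv⟩ 0
    simpa only [_root_.ZeroMemClass.coe_zero, _root_.add_zero, _root_.LinearEquiv.coe_one, _root_.id_eq, _root_.LinearEquiv.coe_neg, _root_.Pi.neg_apply, _root_.neg_zero] using this
  have hA2 : ∀ v ∈ W.comap (U ⊔ W).subtype, A v = -v := by
    intro v hv
    have := ds_apply hc 1 (LinearEquiv.neg F) 0 ⟨v, hv⟩
    simpa only [_root_.ZeroMemClass.coe_zero, _root_.zero_add, _root_.LinearEquiv.coe_one, _root_.id_eq, _root_.LinearEquiv.coe_neg, _root_.Pi.neg_apply, _root_.NegMemClass.coe_neg] using this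
  refine pw_of_corner hB hN h1 h3 h4 (A := A) (fac_mix hE hXi h2 ha hb hab he hnum hP hU hW htop hA1 hA2) hg ?_
  intro v
  obtain ⟨u, hu, w, hw, rfl⟩ := Submodule.mem_sup.1 (hle v)
  rw [map_add, hA1 u hu, hA2 w hw]
  have e1 : g ((u + w : ↥(U ⊔ W)) : V) - ((u + -w : ↥(U ⊔ W)) : V) = (g u - u) + (g w + w) := by
    push_cast
    rw [map_add]
    abel
  rw [e1]
  exact Q.add_mem (h7 u hu) (h8 w hw)

end Cfsg.Agent.H144.War
end
end

private theorem dce_15f0d57803bd : _root_.True := by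
  try have : _root_.True := by simp only [_root_.Cfsg.Agent.H144.War.ofPow.congr_simp]
  try have : _root_.True := by simp only [_root_.Cfsg.Agent.H144.War.ds.eq_1]
  try have : _root_.True := by simp only [_root_.Cfsg.Agent.H144.War.ds.congr_simp]
  try have : _root_.True := by simp only [_root_.Cfsg.Agent.H144.gr.congr_simp]
  exact _root_.True.intro
end

-- part: H143/War/Mix
section
prune_inst 0x1404440786202000000a59463001c428a0000020048040024a105020dc90442c0430820bf902411408290c45838004002100080004000000e203400011b01a0808002008048a3040e008f000100000000000000300000000000000000000000000000000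
set_option linter.all false
open scoped Cfsg.Agent.FastGrp

/-!
# The core of the mixed block (box E of `H144/War/Boxes2`)

`K = F[ξ]` of degree `r + c`, `f` monic of degree `r + c`: a map `X` killed by `f` such that `X (ξ ·)⁻¹` is `1` on a subspace
`W` of dimension `r` and `-1` modulo `W`.
-/

set_option autoImplicit false
open Polynomial

namespace Cfsg.Agent.H143.War.Mix

section lin

variable {F K : Type} [Field F] [Field K] [Algebra F K]

/-- polynomials of different degrees at an element of large degree -/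
theorem linInd {ξ : K} (hξ : IsIntegral F ξ) {n : ℕ} (hn : n ≤ (minpoly F ξ).natDegree) {P : ℕ → F[X]}
    (hP : ∀ i < n, (P i).degree = (i : ℕ)) : LinearIndependent F (fun i : Fin n => aeval ξ (P i)) := by
  classical
  rw [Fintype.linearIndependent_iff]
  intro c hc
  have h1 : aeval ξ (∑ i : Fin n, C (c i) * P i) = 0 := by
    rw [map_sum, ← hc]
    refine Finset.sum_congr rfl fun i _ => ?_
    rw [map_mul, aeval_C, Algebra.smul_def]
  have hd : ∀ i : Fin n, (C (c i) * P i).degree < n := by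
    intro i
    by_cases hi : c i = 0
    · rw [hi, C_0, zero_mul, degree_zero]
      exact WithBot.bot_lt_coe n
    · rw [degree_C_mul hi, hP i i.2]
      exact_mod_cast i.2
  have h2 : ∑ i : Fin n, C (c i) * P i = 0 := by
    by_contra hne
    have h3 := minpoly.degree_le_of_ne_zero F ξ hne h1
    have h4 : (∑ i : Fin n, C (c i) * P i).degree < n := by
      refine lt_of_le_of_lt (degree_sum_le _ _) ?_
      exact (Finset.sup_lt_iff (WithBot.bot_lt_coe n)).2 fun i _ => hd i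
    rw [degree_eq_natDegree (minpoly.ne_zero hξ)] at h3
    have h5 := lt_of_le_of_lt h3 h4
    have h6 : (minpoly F ξ).natDegree < n := by exact_mod_cast h5
    omega
  have h3 := degree_sum_eq_of_disjoint (fun i : Fin n => C (c i) * P i) Finset.univ (by
    intro i hi j hj hij
    have h4 : c i ≠ 0 := fun h => hi.2 (by simp [h])
    have h5 : c j ≠ 0 := fun h => hj.2 (by simp [h])
    intro h6
    have h6 : (C (c i) * P i).degree = (C (c j) * P j).degree := h6
    rw [degree_C_mul h4, degree_C_mul h5, hP i i.2, hP j j.2] at h6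
    apply hij
    apply Fin.ext
    exact_mod_cast h6)
  intro i
  by_contra hi
  have h4 : (C (c i) * P i).degree ≤ (0 : F[X]).degree := by
    rw [← h2, h3]
    exact Finset.le_sup (f := fun i : Fin n => (C (c i) * P i).degree) (Finset.mem_univ i)
  rw [degree_C_mul hi, hP i i.2, degree_zero, le_bot_iff] at h4
  exact WithBot.coe_ne_bot h4

end lin

section comp

variable {F V : Type} [Field F] [AddCommGroup V] [Module F V]

/-- a companion map kills its polynomial -/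
theorem aeval_comp {n : ℕ} (hn : 0 < n) {f : F[X]} (hf : f.Monic) (hd : f.natDegree = n) {B : ℕ → V} {T : V →ₗ[F] V}
    (h1 : ∀ i, i + 1 < n → T (B i) = B (i + 1)) (h2 : T (B (n - 1)) = - ∑ j ∈ Finset.range n, f.coeff j • B j)
    (hsp : ∀ v, v ∈ Submodule.span F (Set.range fun i : Fin n => B i)) : aeval (R := F) T f = 0 := by
  have hp : ∀ i, i < n → (T ^ i) (B 0) = B i := by
    intro i
    induction i with
    | zero => intro _; rfl
    | succ i ih =>
      intro hi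
      rw [pow_succ', Module.End.mul_apply, ih (by omega), h1 i hi]
  have h0 : (aeval (R := F) T f) (B 0) = 0 := by
    rw [aeval_eq_sum_range, hd, Finset.sum_range_succ, LinearMap.add_apply, LinearMap.sum_apply]
    have h3 : f.coeff n = 1 := by
      rw [← hd]
      exact hf
    have h4 : (T ^ n) (B 0) = - ∑ j ∈ Finset.range n, f.coeff j • B j := by
      obtain ⟨m, rfl⟩ : ∃ m, n = m + 1 := ⟨n - 1, by omega⟩
      rw [pow_succ', Module.End.mul_apply, hp m (by omega)]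
      exact h2
    rw [h3, one_smul, h4, Finset.sum_congr rfl fun i hi => ?_, add_neg_cancel]
    rw [LinearMap.smul_apply, hp i (Finset.mem_range.1 hi)]
  have hc : ∀ i, (aeval (R := F) T f) * T ^ i = T ^ i * (aeval (R := F) T f) := by
    intro i
    have e : T ^ i = aeval (R := F) T (X ^ i) := by simp
    rw [e, ← map_mul, ← map_mul, mul_comm]
  ext v
  have hker : Submodule.span F (Set.range fun i : Fin n => B i) ≤ LinearMap.ker (aeval (R := F) T f) := by
    rw [Submodule.span_le]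
    rintro _ ⟨i, rfl⟩
    show (aeval (R := F) T f) (B i) = 0
    rw [← hp i i.2, ← Module.End.mul_apply, hc, Module.End.mul_apply, h0, map_zero]
  exact hker (hsp v)

/-- it is invertible if `f(0) ≠ 0` -/
theorem injective_of_aeval {f : F[X]} (h0 : f.coeff 0 ≠ 0) {T : V →ₗ[F] V} (hT : aeval (R := F) T f = 0) :
    Function.Injective T := by
  rw [injective_iff_map_eq_zero]
  intro v hv
  have h1 : (aeval (R := F) T f) v = f.coeff 0 • v := by
    conv_lhs => rw [← divX_mul_X_add f]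
    rw [map_add, map_mul, aeval_X, aeval_C, LinearMap.add_apply, Module.End.mul_apply, hv, map_zero, zero_add]
    rfl
  rw [hT, LinearMap.zero_apply] at h1
  exact (smul_eq_zero.1 h1.symm).resolve_left h0

end comp

section main

variable {F K : Type} [Field F] [Field K] [Algebra F K]

/-- the vectors of the basis -/
noncomputable def PP (r : ℕ) (p : F[X]) (i : ℕ) : F[X] := if i ≤ r then X ^ i else (-X) ^ (i - r - 1) * p

theorem degree_PP {r : ℕ} {p : F[X]} (hp : p.degree = ((r + 1 : ℕ) : WithBot ℕ)) (i : ℕ) : (PP r p i).degree = (i : ℕ) := by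
  unfold PP
  split_ifs with h
  · exact degree_X_pow i
  · rw [degree_mul, degree_pow, degree_neg, degree_X, hp, nsmul_eq_mul, mul_one]
    rw [← Nat.cast_add]
    congr 1
    omega

/-- the subspace `ξ F[ξ]_(< r)` -/
noncomputable def WW (F : Type) {K : Type} [Field F] [Field K] [Algebra F K] (r : ℕ) (ξ : K) : Submodule F K :=
  LinearMap.range (((LinearMap.mulLeft F ξ).comp (aeval (R := F) ξ).toLinearMap).domRestrict (degreeLT F r))

theorem mem_WW {r : ℕ} {ξ : K} {v : K} : v ∈ WW F r ξ ↔ ∃ q ∈ degreeLT F r, ξ * aeval ξ q = v := by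
  unfold WW
  rw [LinearMap.mem_range]
  constructor
  · rintro ⟨⟨q, hq⟩, h⟩
    exact ⟨q, hq, h⟩
  · rintro ⟨q, hq, h⟩
    exact ⟨⟨q, hq⟩, h⟩

theorem finrank_WW {r : ℕ} {ξ : K} (hξ : IsIntegral F ξ) (h0 : ξ ≠ 0) (hr : r ≤ (minpoly F ξ).natDegree) :
    Module.finrank F (WW F r ξ) = r := by
  unfold WW
  rw [LinearMap.finrank_range_of_inj]
  · rw [(degreeLTEquiv F r).finrank_eq, Module.finrank_fin_fun]
  · rw [injective_iff_map_eq_zero]
    rintro ⟨q, hq⟩ h
    have h1 : ξ * aeval ξ q = 0 := h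
    have h2 : aeval ξ q = 0 := (mul_eq_zero.1 h1).resolve_left h0
    by_contra hne
    have hq0 : q ≠ 0 := fun h => hne (Subtype.ext h)
    have h3 := minpoly.degree_le_of_ne_zero F ξ hq0 h2
    rw [mem_degreeLT] at hq
    rw [degree_eq_natDegree (minpoly.ne_zero hξ)] at h3
    have h5 := lt_of_le_of_lt h3 hq
    have h6 : (minpoly F ξ).natDegree < r := by exact_mod_cast h5
    omega

/-- **box E** -/
theorem mixCore : Cfsg.Agent.H144.War.MixCore := by
  intro F K _ _ _ _ r c hc hcr hfr ξ hξ0 hdeg f hf hfd hf0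
  have hint : IsIntegral F ξ := .of_finite F ξ
  set g := minpoly F ξ with hg
  have hgm : g.Monic := minpoly.monic hint
  have hgξ : aeval ξ g = 0 := minpoly.aeval F ξ
  have hg0 : g.coeff 0 ≠ 0 := minpoly.coeff_zero_ne_zero hint hξ0
  -- the splitting of `f`
  have hXm : (X ^ (r + 1) : F[X]).Monic := monic_X_pow _
  set flo := f %ₘ X ^ (r + 1) with hflo
  set fhi := f /ₘ X ^ (r + 1) with hfhi
  have hfs : flo + X ^ (r + 1) * fhi = f := modByMonic_add_div f _
  have hflod : flo.degree < ((r + 1 : ℕ) : WithBot ℕ) := by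
    rw [← degree_X_pow (R := F) (r + 1)]
    exact degree_modByMonic_lt _ hXm
  have hfhid : fhi.natDegree = c - 1 := by
    rw [hfhi, natDegree_divByMonic _ hXm, hfd, natDegree_X_pow]
    (clear * -; omega)
  have hfhim : fhi.Monic := by
    have h1 : (X ^ (r + 1) * fhi).coeff (r + c) = 1 := by
      have h2 : flo.coeff (r + c) = 0 := coeff_eq_zero_of_degree_lt (hflod.trans_le (by exact_mod_cast (by omega)))
      have h3 : f.coeff (r + c) = 1 := by rw [← hfd]; exact hf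
      rw [← hfs, coeff_add, h2, zero_add] at h3
      exact h3
    have h2 : r + c = (c - 1) + (r + 1) := by omega
    rw [h2, coeff_X_pow_mul] at h1
    rw [Monic, leadingCoeff, hfhid]
    exact h1
  have hflo0 : flo.coeff 0 = f.coeff 0 := by
    rw [← hfs, coeff_add, coeff_X_pow_mul', if_neg (by omega), add_zero]
  -- the polynomial `p`
  set D := C ((-1 : F) ^ (c - 1)) * fhi.comp (-X) with hD
  have hfc : (fhi.comp (-X)).natDegree = c - 1 := by
    rw [natDegree_comp, natDegree_neg, natDegree_X, mul_one, hfhid]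
  have hneg : ((-1 : F) ^ (c - 1)) ≠ 0 := pow_ne_zero _ (by norm_num)
  have hDm : D.Monic := by
    rw [Monic, hD, leadingCoeff_mul, leadingCoeff_C, leadingCoeff_comp (by rw [natDegree_neg, natDegree_X]; exact one_ne_zero),
      leadingCoeff_neg, leadingCoeff_X, hfhid, hfhim.leadingCoeff, one_mul, ← mul_pow]
    norm_num
  have hDd : D.natDegree = c - 1 := by
    rw [hD, natDegree_C_mul hneg, hfc]
  set G := g.divX - C ((-1 : F) ^ c) * flo.divX with hG
  have hgdd : g.divX.natDegree = r + c - 1 := by rw [natDegree_divX_eq_natDegree_tsub_one, hdeg]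
  have hgdm : g.divX.Monic := by
    rw [Monic, leadingCoeff, hgdd, coeff_divX, show r + c - 1 + 1 = r + c by (clear * - hc; omega), ← hdeg]
    exact hgm
  have hflodX : flo.divX.degree < (r : WithBot ℕ) ∨ flo.divX = 0 := by
    by_cases h0 : flo.divX = 0
    · exact Or.inr h0
    · left
      have h1 : flo ≠ 0 := by
        rintro h1
        apply h0
        rw [h1, divX_zero]
      rw [degree_eq_natDegree h1] at hflod
      have h2 : flo.natDegree < r + 1 := by exact_mod_cast hflod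
      have h3 : flo.natDegree ≠ 0 := by
        intro h3
        apply h0
        rw [eq_C_of_natDegree_eq_zero h3, divX_C]
      rw [degree_eq_natDegree h0, natDegree_divX_eq_natDegree_tsub_one]
      exact_mod_cast (by omega : flo.natDegree - 1 < r)
  have hlt : (C ((-1 : F) ^ c) * flo.divX).degree < g.divX.degree := by
    rw [degree_eq_natDegree hgdm.ne_zero, hgdd]
    rcases hflodX with h | h
    · rw [degree_C_mul (pow_ne_zero _ (by norm_num))]
      refine h.trans_le ?_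
      exact_mod_cast (by omega : r ≤ r + c - 1)
    · rw [h, mul_zero, degree_zero]
      exact WithBot.bot_lt_coe _
  have hGm : G.Monic := hgdm.sub_of_left hlt
  have hGd : G.natDegree = r + c - 1 := by
    rw [hG, natDegree_eq_of_degree_eq (degree_sub_eq_left_of_degree_lt hlt), hgdd]
  set q := G /ₘ D with hq
  set om := G %ₘ D with hom
  have hqs : om + D * q = G := modByMonic_add_div G _
  have homd : om.degree < D.degree := degree_modByMonic_lt _ hDm
  have hqd : q.natDegree = r := by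
    rw [hq, natDegree_divByMonic _ hDm, hGd, hDd]
    (clear * - hc; omega)
  have hq0 : q ≠ 0 := by
    intro h
    rw [h, mul_zero, add_zero] at hqs
    rw [hqs, degree_eq_natDegree hGm.ne_zero, degree_eq_natDegree hDm.ne_zero, hGd, hDd] at homd
    have h1 : r + c - 1 < c - 1 := by exact_mod_cast homd
    (clear * - hc h1; omega)
  have hqm : q.Monic := by
    have h1 : om.degree < (D * q).degree := by
      refine homd.trans_le ?_
      have h3 : (D * q).degree = D.degree + q.degree := degree_mul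
      rw [h3]
      have h2 : (0 : WithBot ℕ) ≤ q.degree := zero_le_degree_iff.2 hq0
      calc D.degree = D.degree + 0 := (add_zero _).symm
        _ ≤ D.degree + q.degree := add_le_add_right h2 _
    have h2 := leadingCoeff_add_of_degree_lt h1
    rw [hqs, hGm.leadingCoeff, leadingCoeff_mul, hDm.leadingCoeff, one_mul] at h2
    exact h2.symm
  set P0 := -(X * q) with hP0
  have hP0d : P0.degree = ((r + 1 : ℕ) : WithBot ℕ) := by
    rw [hP0, degree_neg, degree_mul, degree_X, degree_eq_natDegree hq0, hqd, Nat.cast_add, Nat.cast_one, add_comm]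
  have hP0ξ : aeval ξ P0 = -(ξ * aeval ξ q) := by rw [hP0, map_neg, map_mul, aeval_X]
  let B : ℕ → K := fun i => aeval ξ (PP r P0 i)
  have hB1 : ∀ i ≤ r, B i = ξ ^ i := by
    intro i hi
    show aeval ξ (PP r P0 i) = ξ ^ i
    rw [PP, if_pos hi, map_pow, aeval_X]
  have hB2 : ∀ j, B (r + 1 + j) = (-ξ) ^ j * aeval ξ P0 := by
    intro j
    show aeval ξ (PP r P0 (r + 1 + j)) = _
    rw [PP, if_neg (by omega), map_mul, map_pow, map_neg, aeval_X, show r + 1 + j - r - 1 = j by omega]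
  have hlin : LinearIndependent F (fun i : Fin (r + c) => B i) :=
    linInd hint hdeg.ge fun i _ => degree_PP hP0d i
  have hne : Nonempty (Fin (r + c)) := ⟨⟨0, by omega⟩⟩
  let b := basisOfLinearIndependentOfCardEqFinrank hlin (by rw [Fintype.card_fin, hfr])
  have hb : ∀ i : Fin (r + c), b i = B i := by
    intro i
    show (basisOfLinearIndependentOfCardEqFinrank hlin _) i = _
    rw [coe_basisOfLinearIndependentOfCardEqFinrank]
  have hsp : ∀ v, v ∈ Submodule.span F (Set.range fun i : Fin (r + c) => B i) := by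
    intro v
    have h1 : (Set.range fun i : Fin (r + c) => B i) = Set.range b := by
      congr 1
      funext i
      exact (hb i).symm
    rw [h1, b.span_eq]
    trivial
  let T : K →ₗ[F] K := b.constr F (fun i : Fin (r + c) => if (i : ℕ) + 1 < r + c then B (i + 1) else
    -∑ j ∈ Finset.range (r + c), f.coeff j • B j)
  have hT : ∀ i (hi : i < r + c), T (B i) = if i + 1 < r + c then B (i + 1) else
      -∑ j ∈ Finset.range (r + c), f.coeff j • B j := by
    intro i hi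
    have h1 := b.constr_basis F (fun i : Fin (r + c) => if (i : ℕ) + 1 < r + c then B (i + 1) else
      -∑ j ∈ Finset.range (r + c), f.coeff j • B j) ⟨i, hi⟩
    rw [hb] at h1
    exact h1
  have hT1 : ∀ i, i + 1 < r + c → T (B i) = B (i + 1) := fun i hi => by rw [hT i (by omega), if_pos hi]
  have hT2 : T (B (r + c - 1)) = -∑ j ∈ Finset.range (r + c), f.coeff j • B j := by
    rw [hT _ (by (clear * - hc; omega)), if_neg (by (clear * -; omega))]
  have hTf : aeval (R := F) T f = 0 := aeval_comp (by omega) hf hfd hT1 hT2 hsp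
  have hf00 : f.coeff 0 ≠ 0 := by
    rw [hf0]
    exact mul_ne_zero (pow_ne_zero _ (by norm_num)) hg0
  have hinj := injective_of_aeval hf00 hTf
  have hw : ∀ s : F[X], s.degree < (r : WithBot ℕ) → ξ * aeval ξ s ∈ WW F r ξ := fun s hs =>
    mem_WW.2 ⟨s, mem_degreeLT.2 hs, rfl⟩
  refine ⟨LinearEquiv.ofInjectiveEndo T hinj, WW F r ξ, ?_, finrank_WW hint hξ0 (by rw [← hg, hdeg]; omega), ?_, ?_⟩
  · have h1 : ((LinearEquiv.ofInjectiveEndo T hinj : K ≃ₗ[F] K) : Module.End F K) = T := by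
      ext v
      rfl
    rw [h1]
    exact hTf
  · intro v hv
    show T v = ξ * v
    obtain ⟨s, hs, e⟩ := mem_WW.1 hv
    have hv' : v = aeval ξ s := (mul_left_cancel₀ hξ0 e).symm
    rw [mem_degreeLT] at hs
    by_cases hs0 : s = 0
    · rw [hv', hs0, map_zero, map_zero, mul_zero]
    · have h1 : s.natDegree < r := (natDegree_lt_iff_degree_lt hs0).2 hs
      rw [hv', aeval_eq_sum_range' h1, map_sum, Finset.mul_sum]
      refine Finset.sum_congr rfl fun i hi => ?_
      have hi' := Finset.mem_range.1 hi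
      rw [map_smul, ← hB1 i (by omega), hT1 i (by omega), hB1 i (by omega), hB1 (i + 1) (by omega), mul_smul_comm, pow_succ']
  · have key : Submodule.span F (Set.range fun i : Fin (r + c) => B i) ≤
        (WW F r ξ).comap (T + LinearMap.mulLeft F ξ) := by
      rw [Submodule.span_le]
      rintro _ ⟨⟨i, hi⟩, rfl⟩
      show T (B i) + ξ * B i ∈ WW F r ξ
      have hmid : aeval ξ P0 + ξ ^ (r + 1) ∈ WW F r ξ := by
        have h1 : (X ^ r - q : F[X]).degree < (r : WithBot ℕ) := by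
          rw [← degree_X_pow (R := F) r]
          refine degree_sub_lt_left ?_ (monic_X_pow r).ne_zero ?_
          · rw [degree_X_pow, degree_eq_natDegree hq0, hqd]
          · rw [(monic_X_pow r).leadingCoeff, hqm.leadingCoeff]
        have h2 := hw _ h1
        rw [map_sub, map_pow, aeval_X] at h2
        have h3 : aeval ξ P0 + ξ ^ (r + 1) = ξ * (ξ ^ r - aeval ξ q) := by
          rw [hP0ξ]
          ring
        rw [h3]
        exact h2
      rcases Nat.lt_or_ge (i + 1) (r + c) with h1 | h1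
      · rw [hT1 i h1]
        rcases Nat.lt_trichotomy i r with h2 | h2 | h2
        · rw [hB1 i h2.le, hB1 (i + 1) h2]
          have h3 := hw (C 2 * X ^ i) (by
            refine lt_of_le_of_lt (degree_C_mul_X_pow_le i _) ?_
            exact_mod_cast h2)
          rw [map_mul, map_pow, aeval_X, aeval_C, map_ofNat] at h3
          have h4 : ξ ^ (i + 1) + ξ * ξ ^ i = ξ * (2 * ξ ^ i) := by ring
          rw [h4]
          exact h3
        · subst h2
          rw [hB1 i le_rfl, show i + 1 = i + 1 + 0 from rfl, hB2 0, pow_zero, one_mul, ← pow_succ']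
          exact hmid
        · obtain ⟨j, rfl⟩ : ∃ j, i = r + 1 + j := ⟨i - r - 1, by omega⟩
          rw [hB2 j, show r + 1 + j + 1 = r + 1 + (j + 1) by ring, hB2 (j + 1)]
          have h4 : (-ξ) ^ (j + 1) * aeval ξ P0 + ξ * ((-ξ) ^ j * aeval ξ P0) = 0 := by ring
          rw [h4]
          exact zero_mem _
      · obtain rfl : i = r + c - 1 := by (clear * - hi h1; omega)
        rw [hT2]
        have hE : ξ * B (r + c - 1) + (-ξ) ^ (c - 1) * aeval ξ P0 ∈ WW F r ξ := by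
          rcases Nat.lt_or_ge 1 c with h2 | h2
          · have h3 : r + c - 1 = r + 1 + (c - 2) := by (clear * - h2; omega)
            have h4 : c - 1 = c - 2 + 1 := by (clear * - h3; omega)
            rw [h3, hB2, h4]
            have h5 : ξ * ((-ξ) ^ (c - 2) * aeval ξ P0) + (-ξ) ^ (c - 2 + 1) * aeval ξ P0 = 0 := by ring
            rw [h5]
            exact zero_mem _
          · obtain rfl : c = 1 := by (clear * - hc h2; omega)
            rw [show r + 1 - 1 = r by (clear * -; omega), hB1 r le_rfl, show 1 - 1 = 0 from rfl, pow_zero, one_mul, ← pow_succ', add_comm]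
            exact hmid
        have hsum : ∑ j ∈ Finset.range (r + c), f.coeff j • B j =
            aeval ξ flo + (aeval (-ξ) fhi - (-ξ) ^ (c - 1)) * aeval ξ P0 := by
          have h2 : r + c = (r + 1) + (c - 1) := by (clear * - hc; omega)
          rw [h2, Finset.sum_range_add]
          congr 1
          · have h3 : flo.natDegree < r + 1 := by
              by_cases h0 : flo = 0
              · rw [h0, natDegree_zero]
                omega
              · exact (natDegree_lt_iff_degree_lt h0).2 hflod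
            rw [aeval_eq_sum_range' h3]
            refine Finset.sum_congr rfl fun j hj => ?_
            have hj' := Finset.mem_range.1 hj
            rw [hB1 j (by omega), ← hfs, coeff_add, coeff_X_pow_mul', if_neg (by omega), add_zero]
          · have h3 : aeval (-ξ) fhi = ∑ j ∈ Finset.range (c - 1), fhi.coeff j • (-ξ) ^ j + (-ξ) ^ (c - 1) := by
              rw [aeval_eq_sum_range, hfhid, Finset.sum_range_succ]
              congr 1
              have h4 : fhi.coeff (c - 1) = 1 := by rw [← hfhid]; exact hfhim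
              rw [h4, one_smul]
            rw [h3, add_sub_cancel_right, Finset.sum_mul]
            refine Finset.sum_congr rfl fun j hj => ?_
            have hj' := Finset.mem_range.1 hj
            rw [hB2 j, smul_mul_assoc]
            congr 1
            conv_lhs => rw [← hfs]
            rw [coeff_add, coeff_eq_zero_of_degree_lt (hflod.trans_le (by exact_mod_cast (by omega : r + 1 ≤ r + 1 + j))),
              zero_add, add_comm (r + 1) j, coeff_X_pow_mul]
        have hid : aeval ξ flo + aeval (-ξ) fhi * aeval ξ P0 = ξ * aeval ξ (C ((-1 : F) ^ (c - 1)) * om) := by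
          have e1 : aeval ξ g.divX * ξ + algebraMap F K (g.coeff 0) = 0 := by
            have h2 := congrArg (aeval ξ) (divX_mul_X_add g)
            rw [map_add, map_mul, aeval_X, aeval_C, hgξ] at h2
            exact h2
          have e2 : aeval ξ flo.divX * ξ + algebraMap F K (f.coeff 0) = aeval ξ flo := by
            have h2 := congrArg (aeval ξ) (divX_mul_X_add flo)
            rw [map_add, map_mul, aeval_X, aeval_C, hflo0] at h2
            exact h2
          have e3 : aeval ξ om + aeval ξ D * aeval ξ q = aeval ξ G := by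
            rw [← map_mul, ← map_add, hqs]
          have e4 : aeval ξ D = (-1) ^ (c - 1) * aeval (-ξ) fhi := by
            rw [hD, map_mul, aeval_C, map_pow, map_neg, map_one, Polynomial.aeval_comp, map_neg, aeval_X]
          have e5 : aeval ξ G = aeval ξ g.divX - (-1) ^ c * aeval ξ flo.divX := by
            rw [hG, map_sub, map_mul, aeval_C, map_pow, map_neg, map_one]
          have e6 : algebraMap F K (f.coeff 0) = (-1) ^ c * algebraMap F K (g.coeff 0) := by
            rw [hf0, map_mul, map_pow, map_neg, map_one]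
          have e7 : ((-1 : K) ^ c) = -(-1) ^ (c - 1) := by
            obtain ⟨d, rfl⟩ : ∃ d, c = d + 1 := ⟨c - 1, by (clear * - hc; omega)⟩
            rw [pow_succ, Nat.add_sub_cancel]
            ring
          have e8 : ((-1 : K) ^ (c - 1)) * (-1) ^ (c - 1) = 1 := by
            rw [← mul_pow]
            norm_num
          rw [e7] at e5 e6
          have e9 : aeval ξ (C ((-1 : F) ^ (c - 1)) * om) = (-1) ^ (c - 1) * aeval ξ om := by
            rw [map_mul, aeval_C, map_pow, map_neg, map_one]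
          rw [e9, hP0ξ, ← e2, e6]
          set s : K := (-1) ^ (c - 1)
          rw [e4] at e3
          rw [e5] at e3
          linear_combination (-s * ξ) * e3 + (aeval (-ξ) fhi * ξ * aeval ξ q - aeval ξ flo.divX * ξ) * e8 - s * e1
        have hom2 : (C ((-1 : F) ^ (c - 1)) * om).degree < (r : WithBot ℕ) := by
          rw [degree_C_mul hneg]
          refine homd.trans_le ?_
          rw [degree_eq_natDegree hDm.ne_zero, hDd]
          exact_mod_cast (by (clear * - hcr; omega) : c - 1 ≤ r)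
        have h3 := Submodule.sub_mem _ hE (hw _ hom2)
        rw [← hid] at h3
        rw [hsum]
        have h4 : -(aeval ξ flo + (aeval (-ξ) fhi - (-ξ) ^ (c - 1)) * aeval ξ P0) + ξ * B (r + c - 1) =
            ξ * B (r + c - 1) + (-ξ) ^ (c - 1) * aeval ξ P0 - (aeval ξ flo + aeval (-ξ) fhi * aeval ξ P0) := by ring
        rw [h4]
        exact h3
    intro v
    exact key (hsp v)

end main

end Cfsg.Agent.H143.War.Mix

private theorem dce_fbe3377c105f : _root_.True := by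
  try have : _root_.True := by simp only [_root_.Cfsg.Agent.H143.War.Mix.PP.eq_1]
  exact _root_.True.intro
end

-- part: H143/War/Xi
section
set_option linter.all false
open scoped Cfsg.Agent.FastGrp

/-!
# Field elements for S2453 (box N2 of `H144/War/Defs`)

`existsXi` : `ζ` a generator of `K ^ *`, `[K : F] = s`, `ξ = ζ ^ e` generates `K` and is not conjugate to its inverse, provided
that `e (q ^ (s / 2) + 1) < q ^ s - 1`.
-/

set_option autoImplicit false
open Polynomial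

namespace Cfsg.Agent.H143.War

section order

/-- the order of a power of a generator -/
theorem big_order {G : Type*} [Group G] [Finite G] {u : G} {e n t : ℕ} (hu : orderOf u = n) (he : 1 ≤ e) (h : e * t < n)
    {k : ℕ} (hk : 0 < k) (hkt : k ≤ t) : (u ^ e) ^ k ≠ 1 := by
  intro h1
  rw [← pow_mul] at h1
  have h2 : n ∣ e * k := hu ▸ orderOf_dvd_of_pow_eq_one h1
  have h3 := Nat.le_of_dvd (Nat.mul_pos he hk) h2
  have h4 : e * k ≤ e * t := Nat.mul_le_mul_left e hkt
  omega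

end order

variable {F K : Type*} [Field F] [Finite F] [Field K] [Algebra F K] [FiniteDimensional F K]

/-- a conjugate is a power -/
theorem conj_pow {a b : K} (h : IsConjRoot F a b) : ∃ j, j < Module.finrank F K ∧ b ^ Nat.card F ^ j = a := by
  have := Fintype.ofFinite F
  have : Finite K := Module.finite_of_finite F
  rw [isConjRoot_iff_exists_algEquiv] at h
  obtain ⟨σ, rfl⟩ := h
  obtain ⟨⟨j, hj⟩, rfl⟩ := (FiniteField.bijective_frobeniusAlgEquivOfAlgebraic_pow F K).2 σ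
  refine ⟨j, hj, ?_⟩
  simp only [AlgEquiv.coe_pow, FiniteField.coe_frobeniusAlgEquivOfAlgebraic_iterate, Nat.card_eq_fintype_card]

/-- not conjugate to the inverse -/
theorem not_conj {s e : ℕ} (hs : Module.finrank F K = s) (he : 1 ≤ e) {u : Kˣ} (hu : orderOf u = Nat.card F ^ s - 1)
    (h : e * (Nat.card F ^ (s / 2) + 1) < Nat.card F ^ s - 1) : ¬ IsConjRoot F ((u ^ e : Kˣ) : K) ((u ^ e)⁻¹ : Kˣ) := by
  intro hc
  have hfin : Finite K := Module.finite_of_finite F
  have hq : 1 < Nat.card F := Finite.one_lt_card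
  obtain ⟨j, hj, hj1⟩ := conj_pow hc
  rw [hs] at hj
  have h1 : ((u ^ e)⁻¹ : Kˣ) ^ Nat.card F ^ j = u ^ e := by
    apply Units.ext
    rw [Units.val_pow_eq_pow_val]
    exact hj1
  have h2 : (u ^ e) ^ (Nat.card F ^ j + 1) = 1 := by
    have h3 : (u ^ e) ^ Nat.card F ^ j = (u ^ e)⁻¹ := by
      rw [← inv_inj, inv_inv, ← inv_pow]
      exact h1
    rw [pow_succ, h3, inv_mul_cancel]
  have hN : (u ^ e) ^ Nat.card F ^ s = u ^ e := by
    have h3 : (u ^ e) ^ (Nat.card F ^ s - 1) = 1 := by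
      rw [← pow_mul, mul_comm, pow_mul, ← hu, pow_orderOf_eq_one, one_pow]
    have h4 : Nat.card F ^ s = (Nat.card F ^ s - 1) + 1 := by
      have := Nat.one_le_pow s _ (by omega : 0 < Nat.card F)
      omega
    rw [h4, pow_succ, h3, one_mul]
  rcases Nat.lt_or_ge (s / 2) j with hlt | hle
  · have h5 : (u ^ e) ^ (Nat.card F ^ (s - j) + 1) = 1 := by
      have h6 : (u ^ e) ^ Nat.card F ^ j = (u ^ e)⁻¹ := by
        rw [pow_succ] at h2
        exact eq_inv_of_mul_eq_one_left h2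
      have h7 : (u ^ e) ^ Nat.card F ^ s = ((u ^ e)⁻¹) ^ Nat.card F ^ (s - j) := by
        rw [← h6, ← pow_mul (u ^ e), ← pow_add, Nat.add_sub_cancel' hj.le]
      rw [hN, inv_pow] at h7
      rw [pow_succ]
      nth_rewrite 2 [h7]
      exact mul_inv_cancel _
    exact big_order hu he h (Nat.succ_pos _) (Nat.succ_le_succ (Nat.pow_le_pow_right (by omega) (by omega : s - j ≤ s / 2))) h5
  · exact big_order hu he h (Nat.succ_pos _) (Nat.succ_le_succ (Nat.pow_le_pow_right (by omega) hle)) h2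

/-- the degree -/
theorem natDegree_eq {s e : ℕ} (hs : Module.finrank F K = s) (he : 1 ≤ e) {u : Kˣ} (hu : orderOf u = Nat.card F ^ s - 1)
    (h : e * (Nat.card F ^ (s / 2) + 1) < Nat.card F ^ s - 1) : (minpoly F ((u ^ e : Kˣ) : K)).natDegree = s := by
  have hfin : Finite K := Module.finite_of_finite F
  have hq : 1 < Nat.card F := Finite.one_lt_card
  have hint : IsIntegral F ((u ^ e : Kˣ) : K) := .of_finite F _
  set L := IntermediateField.adjoin F {((u ^ e : Kˣ) : K)} with hL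
  have h1 : Module.finrank F L = (minpoly F ((u ^ e : Kˣ) : K)).natDegree := IntermediateField.adjoin.finrank hint
  set d := (minpoly F ((u ^ e : Kˣ) : K)).natDegree with hd
  have h2 : d * Module.finrank L K = s := by
    rw [← h1, ← hs]
    exact Module.finrank_mul_finrank F L K
  have hs0 : 0 < s := hs ▸ Module.finrank_pos
  have hd0 : 0 < d := Nat.pos_of_ne_zero (by rintro h3; rw [h3, zero_mul] at h2; omega)
  by_contra hne
  have h3 : 2 ≤ Module.finrank L K := by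
    rcases Nat.lt_or_ge (Module.finrank L K) 2 with h4 | h4
    · interval_cases h5 : Module.finrank L K
      · omega
      · exact absurd (by omega : d = s) hne
    · exact h4
  have h4 : d ≤ s / 2 := by
    rw [Nat.le_div_iff_mul_le (by norm_num)]
    calc d * 2 ≤ d * Module.finrank L K := Nat.mul_le_mul_left d h3
      _ = s := h2
  have hfinL : Finite L := Module.finite_of_finite F
  have hcard : Nat.card L = Nat.card F ^ d := by
    rw [Module.natCard_eq_pow_finrank (K := F) (V := L), h1]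
  have := Fintype.ofFinite L
  have hmem : ((u ^ e : Kˣ) : K) ∈ L := IntermediateField.mem_adjoin_simple_self F _
  have h5 : (⟨((u ^ e : Kˣ) : K), hmem⟩ : L) ^ (Fintype.card L - 1) = 1 := by
    apply FiniteField.pow_card_sub_one_eq_one
    intro h6
    exact (u ^ e).ne_zero (congrArg Subtype.val h6)
  have h6 : (u ^ e) ^ (Nat.card F ^ d - 1) = 1 := by
    apply Units.ext
    have h7 := congrArg Subtype.val h5
    rw [← Nat.card_eq_fintype_card, hcard] at h7
    simpa using h7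
  have h7 : 1 < Nat.card F ^ d := Nat.one_lt_pow (by omega) hq
  refine big_order hu he h (by omega) ?_ h6
  have h8 := Nat.pow_le_pow_right (by omega : 0 < Nat.card F) h4
  omega

/-- **box N2** -/
theorem existsXi : Cfsg.Agent.H144.War.ExistsXi := by
  intro F _ _ s e hs he h
  have : NeZero s := ⟨by omega⟩
  obtain ⟨p, hp⟩ := CharP.exists F
  have : Fact p.Prime := ⟨CharP.char_is_prime F p⟩
  have hfr : Module.finrank F (FiniteField.Extension F p s) = s := FiniteField.finrank_extension F p s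
  refine ⟨FiniteField.Extension F p s, inferInstance, inferInstance, inferInstance, hfr, ?_⟩
  obtain ⟨u, hu⟩ := IsCyclic.exists_generator (α := (FiniteField.Extension F p s)ˣ)
  have hcard : Nat.card (FiniteField.Extension F p s) = Nat.card F ^ s := FiniteField.natCard_extension F p s
  have hord : orderOf u = Nat.card F ^ s - 1 := by
    rw [orderOf_eq_card_of_forall_mem_zpowers hu, Nat.card_units, hcard]
  have key := not_conj hfr he hord h
  refine ⟨u, u.ne_zero, ?_, ?_, ?_, ?_⟩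
  · rw [← Units.val_pow_eq_pow_val, ← hord, pow_orderOf_eq_one, Units.val_one]
  · rw [← Units.val_pow_eq_pow_val]
    exact natDegree_eq hfr he hord h
  · intro h0
    apply key
    rw [← Units.val_pow_eq_pow_val, ← Units.val_inv_eq_inv_val] at h0
    exact minpoly.eq_of_irreducible_of_monic (minpoly.irreducible (Algebra.IsIntegral.isIntegral _)) h0
      (minpoly.monic (Algebra.IsIntegral.isIntegral _))
  · intro h0
    apply key
    rw [← Units.val_pow_eq_pow_val, ← Units.val_inv_eq_inv_val] at h0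
    exact (minpoly.eq_of_irreducible_of_monic (minpoly.irreducible (Algebra.IsIntegral.isIntegral _)) h0
      (minpoly.monic (Algebra.IsIntegral.isIntegral _))).symm

end Cfsg.Agent.H143.War
end

-- part: H144/War/KlPsp
section
prune_inst 0x6004200002000000200002000000080000200040040004c1000001018000090248000380000340020000000000081100000000000000002000000000010000000000b0480100000098000100000000000000300000000000000000000000000000000
set_option linter.all false
open scoped Cfsg.Agent.FastGrp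

-- part: H144/War/Final
section
/-!
# Every isometry `g` or its negative is `x ^ e * y ^ e`
-/

set_option autoImplicit false
open Polynomial

noncomputable section

namespace Cfsg.Agent.H144.War

variable {F V : Type} [Field F] [Finite F] [AddCommGroup V] [Module F V] [FiniteDimensional F V]

omit [Finite F] in
/-- the automorphism `1` on `U`, `p₁ ↦ p₂ ↦ -p₁` -/
theorem exists_J {s : ℕ} (hs : 2 ≤ s) (hV : Module.finrank F V = s) {U : Submodule F V}
    (hU : Module.finrank F U = s - 2) {p₁ p₂ : V} (htop : U ⊔ Submodule.span F {p₁, p₂} = ⊤) :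
    ∃ A : V ≃ₗ[F] V, (∀ v ∈ U, A v = v) ∧ A p₁ = p₂ ∧ A p₂ = -p₁ := by
  let T : (U × F × F) →ₗ[F] V := U.subtype.coprod ((LinearMap.toSpanSingleton F V p₁).coprod (LinearMap.toSpanSingleton F V p₂))
  have hT : ∀ (u : U) (x y : F), T (u, x, y) = u + (x • p₁ + y • p₂) := fun u x y => rfl
  have hsurj : Function.Surjective T := by
    intro v
    obtain ⟨u, hu, w, hw, rfl⟩ := mem_sup_top htop v
    obtain ⟨x, y, rfl⟩ := Submodule.mem_span_pair.1 hw
    exact ⟨(⟨u, hu⟩, x, y), hT _ _ _⟩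
  have hfin : Module.finrank F (U × F × F) = Module.finrank F V := by
    rw [Module.finrank_prod, Module.finrank_prod, Module.finrank_self, hU, hV]
    omega
  have hinj : Function.Injective T := by
    have h1 := LinearMap.finrank_range_add_finrank_ker T
    rw [LinearMap.range_eq_top.2 hsurj, finrank_top, ← hfin] at h1
    have h2 : Module.finrank F (LinearMap.ker T) = 0 := by omega
    exact LinearMap.ker_eq_bot.1 (Submodule.finrank_eq_zero.1 h2)
  let φ : (U × F × F) ≃ₗ[F] V := LinearEquiv.ofBijective T ⟨hinj, hsurj⟩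
  have hφ : ∀ (u : U) (x y : F), φ (u, x, y) = u + (x • p₁ + y • p₂) := fun u x y => rfl
  have hφs : ∀ (u : U) (x y : F), φ.symm (u + (x • p₁ + y • p₂)) = (u, x, y) := by
    intro u x y
    rw [LinearEquiv.symm_apply_eq, hφ]
  let j : (F × F) ≃ₗ[F] (F × F) := LinearEquiv.ofLinearMap
    ((-LinearMap.snd F F F).prod (LinearMap.fst F F F)) ((LinearMap.snd F F F).prod (-LinearMap.fst F F F))
    (by ext <;> simp only [_root_.LinearMap.coe_comp, _root_.LinearMap.coe_inl, _root_.Function.comp_apply, _root_.LinearMap.prod_apply, _root_.LinearMap.coe_snd, _root_.LinearMap.coe_neg, _root_.LinearMap.coe_fst, _root_.Function.prod_apply, _root_.Pi.neg_apply, _root_.neg_neg, _root_.LinearMap.id_comp, _root_.LinearMap.coe_inr, _root_.neg_zero]) (by ext <;> simp only [_root_.LinearMap.coe_comp, _root_.LinearMap.coe_inl, _root_.Function.comp_apply, _root_.LinearMap.prod_apply, _root_.LinearMap.coe_neg, _root_.LinearMap.coe_snd, _root_.LinearMap.coe_fst,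 _root_.Function.prod_apply, _root_.Pi.neg_apply, _root_.neg_zero, _root_.LinearMap.id_comp, _root_.LinearMap.coe_inr, _root_.neg_neg])
  let A : V ≃ₗ[F] V := tr φ.symm ((LinearEquiv.refl F U).prodCongr j)
  have hA : ∀ (u : U) (x y : F), A (u + (x • p₁ + y • p₂)) = u + (-y • p₁ + x • p₂) := by
    intro u x y
    change φ (((LinearEquiv.refl F U).prodCongr j) (φ.symm (u + (x • p₁ + y • p₂)))) = _
    rw [hφs]
    rfl
  refine ⟨A, fun v hv => ?_, ?_, ?_⟩
  · have := hA ⟨v, hv⟩ 0 0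
    simpa using this
  · have := hA 0 1 0
    simpa using this
  · have := hA 0 0 1
    simpa only [_root_.ZeroMemClass.coe_zero, _root_.zero_smul, _root_.one_smul, _root_.zero_add, _root_.neg_smul, _root_.add_zero] using this

theorem pw_j (hJ1 : JCorner) (hJ2 : JBlock) (h2 : (2 : F) ≠ 0)
    {B : LinearMap.BilinForm F V} (hB : Alt B) (hN : Nond B) {p e s : ℕ} [CharP F p] (hs : 2 ≤ s) (he : 1 ≤ e)
    (hnum : e * (Nat.card F ^ (s / 2) + 1) < Nat.card F ^ s - 1) {g : V ≃ₗ[F] V} (hg : Iso B g)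
    {R' R₁ : Submodule F V} (hR' : Module.finrank F R' = 2 * (s - 1)) (hR₁ : Module.finrank F R₁ = 2)
    (ho : Orth B R' R₁) (htop : R' ⊔ R₁ = ⊤) (h1 : ∀ v ∈ R', g v = v) (h3 : ∀ v ∈ R₁, g v = -v) : Pw B p e g := by
  obtain ⟨P, Q, U, p₁, hp₁, p₂, hp₂, hP, hQ, hPQ, hUP, hU, hsup, hgU, hg1, hg2⟩ :=
    hJ1 h2 hB hN hg hs hR' hR₁ ho htop h1 h3
  have hdim : Module.finrank F V = 2 * s := by
    have hc := Submodule.finrank_sup_add_finrank_inf_eq R' R₁
    have hd : R' ⊓ R₁ = ⊥ := by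
      rw [eq_bot_iff]
      intro v hv
      have : v = 0 := by
        apply eq_zero_of_orth hN htop
        · intro w hw
          exact hB.zero (ho w hw v hv.2)
        · intro w hw
          exact ho v hv.1 w hw
      exact this
    rw [hd, htop, finrank_top, finrank_bot, hR', hR₁] at hc
    omega
  have hPs : Module.finrank F P = s := by
    have := finrank_two hB hN hP hQ hPQ
    omega
  have htop' : U.comap P.subtype ⊔ Submodule.span F {(⟨p₁, hp₁⟩ : P), ⟨p₂, hp₂⟩} = ⊤ := by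
    rw [eq_top_iff]
    intro v _
    have hv : (v : V) ∈ U ⊔ Submodule.span F {p₁, p₂} := by rw [hsup]; exact v.2
    obtain ⟨u, hu, w, hw, huw⟩ := Submodule.mem_sup.1 hv
    obtain ⟨x, y, rfl⟩ := Submodule.mem_span_pair.1 hw
    have e1 : v = (⟨u, hUP hu⟩ : P) + (x • (⟨p₁, hp₁⟩ : P) + y • (⟨p₂, hp₂⟩ : P)) := Subtype.ext huw.symm
    rw [e1]
    exact Submodule.add_mem_sup hu (Submodule.mem_span_pair.2 ⟨x, y, rfl⟩)
  have hU' : Module.finrank F (U.comap P.subtype) = s - 2 := by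
    rw [(Submodule.comapSubtypeEquivOfLe hUP).finrank_eq, hU]
  obtain ⟨A, hA1, hA2, hA3⟩ := exists_J hs hPs hU' htop'
  have hfac : Fac p e A := hJ2 h2 hs he hnum hPs hU' hA1 hA2 hA3 htop'
  refine pw_of_corner hB hN hP hQ hPQ hfac hg ?_
  intro v
  have hv : v ∈ U.comap P.subtype ⊔ Submodule.span F {(⟨p₁, hp₁⟩ : P), ⟨p₂, hp₂⟩} := by rw [htop']; trivial
  obtain ⟨u, hu, w, hw, rfl⟩ := Submodule.mem_sup.1 hv
  obtain ⟨x, y, rfl⟩ := Submodule.mem_span_pair.1 hw
  rw [map_add, hA1 u hu, map_add, map_smul, map_smul, hA2, hA3]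
  have e1 : g ((u + (x • (⟨p₁, hp₁⟩ : P) + y • (⟨p₂, hp₂⟩ : P)) : P) : V) -
      ((u + (x • (⟨p₂, hp₂⟩ : P) + y • -(⟨p₁, hp₁⟩ : P)) : P) : V) =
      (g u - u) + (x • (g p₁ - p₂) + y • (g p₂ + p₁)) := by
    push_cast
    rw [map_add, map_add, map_smul, map_smul]
    module
  rw [e1]
  exact Q.add_mem (hgU _ hu) (Q.add_mem (Q.smul_mem _ hg1) (Q.smul_mem _ hg2))

theorem two_case (hJ1 : JCorner) (hJ2 : JBlock) (hE : MixCore) (hXi : ExistsXi) (h2 : (2 : F) ≠ 0)
    {B : LinearMap.BilinForm F V} (hB : Alt B) (hN : Nond B) {p e n a b : ℕ} [CharP F p] (he : 1 ≤ e)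
    (hnum : e * (Nat.card F ^ (n / 2) + 1) < Nat.card F ^ n - 1)
    (hnum' : 3 ≤ n / 2 → e * (Nat.card F ^ (n / 2 / 2) + 1) < Nat.card F ^ (n / 2) - 1)
    {g : V ≃ₗ[F] V} (hg : Iso B g) {R' R₁ : Submodule F V} (hR' : Module.finrank F R' = 2 * a)
    (hR₁ : Module.finrank F R₁ = 2 * b) (hab : a + b = n) (ha : Odd a) (hb : Odd b) (hba : b ≤ a) (hN' : Nd B R')
    (hN₁ : Nd B R₁) (ho : Orth B R' R₁) (htop : R' ⊔ R₁ = ⊤) (h1 : ∀ v ∈ R', g v = v) (h3 : ∀ v ∈ R₁, g v = -v) :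
    Pw B p e g := by
  obtain ⟨c, rfl⟩ := ha
  obtain ⟨d, rfl⟩ := hb
  rcases Nat.eq_zero_or_pos d with hd | hd
  · subst hd
    exact pw_j hJ1 hJ2 h2 hB hN (s := n) (by omega) he hnum hg (by rw [hR']; omega) (by rw [hR₁]; omega) ho htop h1 h3
  -- `b ≥ 3`
  obtain ⟨s, hs⟩ : ∃ s, n = 2 * s := ⟨c + d + 1, by omega⟩
  have hs2 : n / 2 = s := by (clear * - hs; omega)
  rw [hs2] at hnum'
  have hs3 : 3 ≤ s := by omega
  obtain ⟨R1, hR1, hR1N, hR1f⟩ := exists_sub hB hN' hR' (s - 1) (by omega)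
  obtain ⟨R2, hR2, hR12, hR12s, hR2N, hR2f, -⟩ := split_off hB hR1 hR1N hN'
  obtain ⟨S1, hS1, hS1N, hS1f⟩ := exists_sub hB hN₁ hR₁ 1 (by omega)
  obtain ⟨S2, hS2, hS12, hS12s, hS2N, hS2f, -⟩ := split_off hB hS1 hS1N hN₁
  have oRS : ∀ {T T' : Submodule F V}, T ≤ R' → T' ≤ R₁ → Orth B T T' := fun h4 h5 x hx y hy =>
    ho x (h4 hx) y (h5 hy)
  have oA : Orth B (R1 ⊔ S1) (R2 ⊔ S2) :=
    orth_sup (orth_sup' hR12 (oRS hR1 hS2)) (orth_sup' ((oRS hR2 hS1).symm hB) hS12)
  have hAN : Nd B (R1 ⊔ S1) := Nd.sup hB (oRS hR1 hS1) hR1N hS1N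
  have hBN : Nd B (R2 ⊔ S2) := Nd.sup hB (oRS hR2 hS2) hR2N hS2N
  have htopA : R1 ⊔ S1 ⊔ (R2 ⊔ S2) = ⊤ := by
    rw [sup_sup_sup_comm, hR12s, hS12s, htop]
  have inv1 : ∀ {T : Submodule F V}, T ≤ R' → Inv g T := fun h4 v hv => by rw [h1 v (h4 hv)]; exact hv
  have inv2 : ∀ {T : Submodule F V}, T ≤ R₁ → Inv g T := fun {T} h4 v hv => by
    rw [h3 v (h4 hv)]; exact T.neg_mem hv
  have hIA : Inv g (R1 ⊔ S1) := Inv.sup (inv1 hR1) (inv2 hS1)
  have hIB : Inv g (R2 ⊔ S2) := Inv.sup (inv1 hR2) (inv2 hS2)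
  refine pw_sup hB oA hAN htopA hIA hIB ?_ ?_
  · refine pw_j hJ1 hJ2 h2 (restrict_alt hB _) (restrict_nond hAN) (s := s) (by omega) he (hnum' hs3)
      (gr_iso hg _ hIA) (R' := R1.comap (R1 ⊔ S1).subtype) (R₁ := S1.comap (R1 ⊔ S1).subtype) ?_ ?_
      (fun x hx y hy => oRS hR1 hS1 x hx y hy) ?_ ?_ ?_
    · rw [(Submodule.comapSubtypeEquivOfLe le_sup_left).finrank_eq, hR1f]
    · rw [(Submodule.comapSubtypeEquivOfLe le_sup_right).finrank_eq, hS1f]
    · rw [eq_top_iff]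
      intro v _
      obtain ⟨x, hx, y, hy, hxy⟩ := Submodule.mem_sup.1 v.2
      have e1 : v = (⟨x, Submodule.mem_sup_left hx⟩ : ↥(R1 ⊔ S1)) + ⟨y, Submodule.mem_sup_right hy⟩ :=
        Subtype.ext hxy.symm
      rw [e1]
      exact Submodule.add_mem_sup hx hy
    · intro v hv
      exact Subtype.ext (h1 v (hR1 hv))
    · intro v hv
      exact Subtype.ext (h3 v (hS1 hv))
  · have m1 : Mix B g (2 * c + 1 - (s - 1)) 0 R2 := mix_of_c1On hB hR2N (by (clear * - hR' hR1f hR2f; omega))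
      (exists_lag hB hR2N hg (fun v hv => h1 v (hR2 hv)))
    have m2 : Mix B (ng g) (2 * d) 0 S2 := mix_of_c1On hB hS2N (by omega)
      (exists_lag hB hS2N (ng_iso hg) (fun v hv => by rw [ng_apply, h3 v (hS2 hv), neg_neg]))
    have m2' := m2.ng
    rw [ng_ng] at m2'
    have m3 := mix_restrict hIB (Mix.sup hB (oRS hR2 hS2) hR2N m1 m2')
    have hfin : Module.finrank F ↥(R2 ⊔ S2) = 2 * s := by
      rw [finrank_sup_of_orth hB (oRS hR2 hS2) hR2N le_rfl le_rfl]
      omega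
    have hs' : 2 * c + 1 - (s - 1) + 0 + (0 + 2 * d) = s := by omega
    exact pw_of_mix hE hXi h2 (restrict_alt hB _) (restrict_nond hBN) (by omega)
      (by rw [zero_add]; exact even_two_mul d) (by omega) he (by rw [hs']; exact hnum' hs3) (by rw [hfin, hs'])
      (gr_iso hg _ hIB) m3

theorem pw_or (hR : Reflection) (hJ1 : JCorner) (hJ2 : JBlock) (hE : MixCore) (hXi : ExistsXi)
    {B : LinearMap.BilinForm F V} (hB : Alt B) (hN : Nond B) {p e n : ℕ} [CharP F p] (hn : 2 ≤ n) (he : 1 ≤ e)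
    (hnum : e * (Nat.card F ^ (n / 2) + 1) < Nat.card F ^ n - 1)
    (hnum' : (2 : F) ≠ 0 → Even n → 3 ≤ n / 2 → e * (Nat.card F ^ (n / 2 / 2) + 1) < Nat.card F ^ (n / 2) - 1)
    (hV : Module.finrank F V = 2 * n) {g : V ≃ₗ[F] V} (hg : Iso B g) : Pw B p e g ∨ Pw B p e (ng g) := by
  have hTN : Nd B ⊤ := fun v _ h => hN v (fun w => h w trivial)
  obtain ⟨P', P₁, o1, i1, i2, n1, n2, hsup, hc, hc', h20⟩ := exists_split hB hg _ ⊤ (fun v _ => trivial) hTN rfl
  by_cases h2 : (2 : F) = 0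
  · have h3 := h20 h2
    rw [h3, sup_bot_eq] at hsup
    exact Or.inl (pw_of_c1 hXi hB hN hn he hnum hV hg (c1_top hsup hc))
  obtain ⟨a, ha⟩ : ∃ a, Module.finrank F P' = 2 * a := by
    obtain ⟨P, Q, k1, k2, k3, k4⟩ := hc
    exact ⟨_, finrank_lag hB n1 k1 k2 k3⟩
  obtain ⟨b, hb⟩ : ∃ b, Module.finrank F P₁ = 2 * b := by
    obtain ⟨P, Q, k1, k2, k3, k4⟩ := hc'
    exact ⟨_, finrank_lag hB n2 k1 k2 k3⟩
  have hab : a + b = n := by
    have h3 := finrank_sup_of_orth hB o1 n1 le_rfl le_rfl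
    rw [hsup, finrank_top, hV, ha, hb] at h3
    omega
  have m1 : Mix B g a 0 P' := mix_of_c1On hB n1 ha hc
  have m2 : Mix B g 0 b P₁ := by
    have := (mix_of_c1On hB n2 hb hc').ng
    rwa [ng_ng] at this
  have fin' : ∀ (h : V ≃ₗ[F] V) (a' b' : ℕ), Iso B h → a' + b' = n → Even b' → Mix B h a' b' ⊤ →
      Pw B p e h ∨ Pw B p e (ng h) := by
    intro h a' b' hh hab' hb' hm
    rcases Nat.eq_zero_or_pos a' with h0 | h0
    · right
      subst h0
      refine pw_of_mix hE hXi h2 hB hN (a := b') (b := 0) (by omega) Even.zero (by omega) he ?_ (by omega) (ng_iso hh) hm.ng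
      rw [add_zero, show b' = n by omega]
      exact hnum
    · left
      refine pw_of_mix hE hXi h2 hB hN h0 hb' (by omega) he ?_ (by omega) hh hm
      rw [hab']
      exact hnum
  have fin : ∀ (a' b' : ℕ), a' + b' = n → (Even a' ∨ Even b') → Mix B g a' b' ⊤ →
      Pw B p e g ∨ Pw B p e (ng g) := by
    rintro a' b' hab' (h | h) hm
    · have := fin' (ng g) b' a' (ng_iso hg) (by omega) h hm.ng
      rw [ng_ng] at this
      exact this.symm
    · exact fin' g a' b' hg hab' h hm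
  by_cases hev : Even a ∨ Even b
  · apply fin a b hab hev
    rw [← hsup]
    have := Mix.sup hB o1 n1 m1 m2
    rwa [add_zero, zero_add] at this
  push Not at hev
  rw [Nat.not_even_iff_odd, Nat.not_even_iff_odd] at hev
  obtain ⟨hoa, hob⟩ := hev
  by_cases hg1 : ∀ v ∈ P', g v = v
  swap
  · obtain ⟨c, rfl⟩ := hoa
    have m3 := Mix.sup hB o1 n1 (hR h2 hB hg n1 i1 ha hc hg1) m2
    rw [hsup, add_zero] at m3
    exact fin _ _ (by omega) (Or.inl (even_two_mul c)) m3
  by_cases hg2 : ∀ v ∈ P₁, ng g v = v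
  swap
  · obtain ⟨d, rfl⟩ := hob
    have m3 := (hR h2 hB (ng_iso hg) n2 (inv_ng i2) hb hc' hg2).ng
    rw [ng_ng] at m3
    have m4 := Mix.sup hB o1 n1 m1 m3
    rw [hsup, zero_add] at m4
    exact fin _ _ (by omega) (Or.inr (even_two_mul d)) m4
  have hg2' : ∀ v ∈ P₁, g v = -v := by
    intro v hv
    have := hg2 v hv
    rw [ng_apply] at this
    rw [← this, neg_neg, this]
  have hen : Even n := by rw [← hab]; exact hoa.add_odd hob
  rcases le_total b a with hba | hba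
  · left
    exact two_case hJ1 hJ2 hE hXi h2 hB hN he hnum (hnum' h2 hen) hg ha hb hab hoa hob hba n1 n2 o1 hsup hg1 hg2'
  · right
    refine two_case hJ1 hJ2 hE hXi h2 hB hN he hnum (hnum' h2 hen) (ng_iso hg) hb ha (by omega) hob hoa hba n2 n1
      (o1.symm hB) (by rw [sup_comm]; exact hsup) hg2 ?_
    intro v hv
    rw [ng_apply, hg1 v hv]

end Cfsg.Agent.H144.War
end
end

-- part: H140/War/Num
section
/-!
# S2453 for `PSp_2n(q)`: box N1 (numbers)
-/

set_option autoImplicit false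

namespace Cfsg.Agent.H140.War

theorem pow16 : ∀ M : ℕ, 6 ≤ M → M ^ 16 ≤ 3 ^ (6 * M) := by
  intro M hM
  induction M, hM using Nat.le_induction with
  | base => norm_num
  | succ M hM ih =>
    have h1 : (M + 1) * 2 ≤ 3 * M := by omega
    have h2 : ((M + 1) * 2) ^ 16 ≤ (3 * M) ^ 16 := Nat.pow_le_pow_left h1 16
    rw [Nat.mul_pow, Nat.mul_pow] at h2
    have h3 : 3 ^ (6 * (M + 1)) = 3 ^ (6 * M) * 729 := by
      rw [Nat.mul_add, pow_add]; norm_num
    rw [h3]
    have h4 : (3 : ℕ) ^ 16 * M ^ 16 ≤ 729 * 2 ^ 16 * M ^ 16 := by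
      apply Nat.mul_le_mul_right; norm_num
    have h5 : (M + 1) ^ 16 * 2 ^ 16 ≤ (729 * M ^ 16) * 2 ^ 16 := by
      calc _ ≤ _ := h2
        _ ≤ _ := h4
        _ = _ := by ring
    have h6 : (M + 1) ^ 16 ≤ 729 * M ^ 16 := Nat.le_of_mul_le_mul_right h5 (by positivity)
    calc (M + 1) ^ 16 ≤ 729 * M ^ 16 := h6
      _ ≤ 729 * 3 ^ (6 * M) := Nat.mul_le_mul_left _ ih
      _ = _ := by ring

theorem pow_two_sq : ∀ M : ℕ, 4 ≤ M → M ^ 4 ≤ 2 ^ (M ^ 2) := by
  intro M hM
  -- `M ^ 4 ≤ 2 ^ (4 * M)`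
  have h2 : M ^ 4 ≤ (2 ^ M) ^ 4 := Nat.pow_le_pow_left M.lt_two_pow_self.le 4
  calc M ^ 4 ≤ (2 ^ M) ^ 4 := h2
    _ = 2 ^ (M * 4) := by rw [← pow_mul]
    _ ≤ 2 ^ (M ^ 2) := Nat.pow_le_pow_right (by norm_num) (by nlinarith)

/-- the final inequality from `M ^ 4 ≤ q ^ s` and `2 * e ≤ M ^ 2` -/
theorem fin_ineq {q s M e : ℕ} (hq : 2 ≤ q) (hs : 2 ≤ s) (hM : 6 ≤ M) (h : M ^ 4 ≤ q ^ s)
    (he : 2 * e ≤ M ^ 2) : e * (q ^ (s / 2) + 1) < q ^ s - 1 := by
  set a := q ^ (s / 2) with ha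
  set b := q ^ (s - s / 2) with hb
  have hab : a * b = q ^ s := by rw [ha, hb, ← pow_add]; congr 1; omega
  have ha2 : 2 ≤ a := by
    calc 2 ≤ q := hq
      _ = q ^ 1 := (pow_one q).symm
      _ ≤ a := Nat.pow_le_pow_right (by omega) (by omega)
  have hb2 : M ^ 2 ≤ b := by
    have h1 : (M ^ 2) ^ 2 ≤ b ^ 2 := by
      calc (M ^ 2) ^ 2 = M ^ 4 := by ring
        _ ≤ q ^ s := h
        _ ≤ q ^ ((s - s / 2) * 2) := Nat.pow_le_pow_right (by omega) (by omega)
        _ = b ^ 2 := by rw [hb, ← pow_mul]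
    exact (Nat.pow_le_pow_iff_left (by norm_num)).1 h1
  have hM2 : 36 ≤ M ^ 2 := by nlinarith only [hM]
  rw [← hab]
  have h5 : 2 * (e * (a + 1)) ≤ b * (a + 1) := by
    rw [← mul_assoc]; exact Nat.mul_le_mul_right _ (he.trans hb2)
  have h6 : b * (a + 1) + 2 < 2 * (a * b) := by nlinarith only [h, hab, ha2, hM2]
  omega

theorem one_ineq {q s : ℕ} (hq : 2 ≤ q) (hs : 2 ≤ s) (h : 3 ≤ q ∨ 3 ≤ s) :
    1 * (q ^ (s / 2) + 1) < q ^ s - 1 := by
  set a := q ^ (s / 2) with ha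
  set b := q ^ (s - s / 2) with hb
  have hab : a * b = q ^ s := by rw [ha, hb, ← pow_add]; congr 1; omega
  have ha2 : q ≤ a := by
    calc q = q ^ 1 := (pow_one q).symm
      _ ≤ a := Nat.pow_le_pow_right (by omega) (by omega)
  have hb3 : 3 ≤ b := by
    rcases h with h | h
    · calc 3 ≤ q := h
        _ = q ^ 1 := (pow_one q).symm
        _ ≤ b := Nat.pow_le_pow_right (by omega) (by omega)
    · calc 3 ≤ 2 ^ 2 := by norm_num
        _ ≤ q ^ 2 := Nat.pow_le_pow_left hq 2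
        _ ≤ b := Nat.pow_le_pow_right (by omega) (by omega)
  rw [← hab, one_mul]
  rcases h with h | h
  · have : a * 3 ≤ a * b := Nat.mul_le_mul_left _ hb3
    omega
  · have hb4 : 4 ≤ b := by
      calc 4 = 2 ^ 2 := by norm_num
        _ ≤ q ^ 2 := Nat.pow_le_pow_left hq 2
        _ ≤ b := Nat.pow_le_pow_right (by omega) (by omega)
    have : a * 4 ≤ a * b := Nat.mul_le_mul_left _ hb4
    omega

theorem numeric : Cfsg.Agent.H144.War.Numeric := by
  intro q n s M e hq hn hM he hbig hor hs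
  rcases hor with rfl | ⟨hM6, he2⟩
  · rcases hs with rfl | ⟨h3, -, hs3⟩
    · refine one_ineq hq hn ?_
      by_contra hcon
      push Not at hcon
      have hq2 : q = 2 := by omega
      have hn2 : s = 2 := by omega
      subst hq2; subst hn2
      have h1 : 2 ^ (8 * M ^ 2) ≤ M ^ (8 * M ^ 2) := Nat.pow_le_pow_left hM _
      have h2 : 2 ^ (8 * M ^ 2) ≤ 2 ^ (2 * 2 ^ 2 + 2) := h1.trans hbig
      have h3 : 8 * M ^ 2 ≤ 2 * 2 ^ 2 + 2 := (Nat.pow_le_pow_iff_right (by norm_num)).1 h2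
      nlinarith only [hM, h3]
    · exact one_ineq hq (by omega) (Or.inl h3)
  · rcases hs with rfl | ⟨h3, rfl, hs3⟩
    · refine fin_ineq hq hn hM6 ?_ he2
      by_contra hcon
      push Not at hcon
      have h1 : M ^ (8 * M ^ 2) < M ^ (4 * (2 * s + 1)) := by
        calc M ^ (8 * M ^ 2) ≤ q ^ (2 * s ^ 2 + s) := hbig
          _ = (q ^ s) ^ (2 * s + 1) := by rw [← pow_mul]; congr 1; ring
          _ < (M ^ 4) ^ (2 * s + 1) := Nat.pow_lt_pow_left hcon (by omega)
          _ = _ := by rw [← pow_mul]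
      have h2 : 8 * M ^ 2 < 4 * (2 * s + 1) := (Nat.pow_lt_pow_iff_right (by omega)).1 h1
      have h4 : M ^ 2 ≤ s := by omega
      have h5 : M ^ 4 ≤ q ^ s := by
        calc M ^ 4 ≤ 2 ^ (M ^ 2) := pow_two_sq M (by omega)
          _ ≤ 2 ^ s := Nat.pow_le_pow_right (by norm_num) h4
          _ ≤ q ^ s := Nat.pow_le_pow_left hq s
      omega
    · refine fin_ineq hq (by omega) hM6 ?_ he2
      by_contra hcon
      push Not at hcon
      have h1 : M ^ (8 * M ^ 2) < M ^ (4 * (8 * s + 2)) := by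
        calc M ^ (8 * M ^ 2) ≤ q ^ (2 * (2 * s) ^ 2 + 2 * s) := hbig
          _ = (q ^ s) ^ (8 * s + 2) := by rw [← pow_mul]; congr 1; ring
          _ < (M ^ 4) ^ (8 * s + 2) := Nat.pow_lt_pow_left hcon (by omega)
          _ = _ := by rw [← pow_mul]
      have h2 : 8 * M ^ 2 < 4 * (8 * s + 2) := (Nat.pow_lt_pow_iff_right (by omega)).1 h1
      have h4 : M ^ 2 ≤ 4 * s := by omega
      have h5 : (M ^ 4) ^ 4 ≤ (q ^ s) ^ 4 := by
        calc (M ^ 4) ^ 4 = M ^ 16 := by ring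
          _ ≤ 3 ^ (6 * M) := pow16 M hM6
          _ ≤ 3 ^ (M ^ 2) := Nat.pow_le_pow_right (by norm_num) (by nlinarith only [hM6])
          _ ≤ 3 ^ (4 * s) := Nat.pow_le_pow_right (by norm_num) h4
          _ = (3 ^ s) ^ 4 := by rw [← pow_mul]; congr 1; ring
          _ ≤ (q ^ s) ^ 4 := Nat.pow_le_pow_left (Nat.pow_le_pow_left h3 s) 4
      have h6 : M ^ 4 ≤ q ^ s := (Nat.pow_le_pow_iff_left (by norm_num)).1 h5
      omega

end Cfsg.Agent.H140.War
end

-- part: H140/War/Refl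
section
/-!
# S2453, `PSp`: box R (reflection corner)

`g = (1 + n) (1 + m)` on `R = P ⊕ Q`, `g ≠ 1`: there is a corner which is a reflection.
-/

set_option autoImplicit false
open Polynomial

namespace Cfsg.Agent.H140.War

open Cfsg.Agent.H144 Cfsg.Agent.H144.War

variable {F V : Type*} [Field F] [AddCommGroup V] [Module F V] {B : LinearMap.BilinForm F V} {R P Q : Submodule F V}

theorem nd_eq_zero (hR : Nd B R) (hPQ : P ⊔ Q = R) {v : V} (hv : v ∈ R) (h1 : ∀ w ∈ P, B v w = 0)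
    (h2 : ∀ w ∈ Q, B v w = 0) : v = 0 := by
  apply hR v hv
  intro w hw
  rw [← hPQ] at hw
  obtain ⟨p, hp, q, hq, rfl⟩ := Submodule.mem_sup.1 hw
  rw [map_add, h1 p hp, h2 q hq, add_zero]

variable [FiniteDimensional F V]

theorem finrank_le_of_nd (hB : Alt B) (hR : Nd B R) (hQ : Orth B Q Q) (hPQ : P ⊔ Q = R) :
    Module.finrank F Q ≤ Module.finrank F P := by
  let e : Q →ₗ[F] Module.Dual F P := (B.compl₁₂ P.subtype Q.subtype).flip
  have he : Function.Injective e := by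
    rw [← LinearMap.ker_eq_bot, LinearMap.ker_eq_bot']
    intro q hq
    have : (q : V) = 0 := by
      apply nd_eq_zero hR hPQ (hPQ ▸ Submodule.mem_sup_right q.2) _ (hQ q q.2)
      intro w hw
      have := LinearMap.congr_fun hq ⟨w, hw⟩
      exact hB.zero this
    exact Subtype.ext this
  have := LinearMap.finrank_le_finrank_of_injective he
  rwa [Subspace.dual_finrank_eq] at this

theorem finrank_of_nd (hB : Alt B) (hR : Nd B R) (hP : Orth B P P) (hQ : Orth B Q Q) (hPQ : P ⊔ Q = R) {a : ℕ}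
    (ha : Module.finrank F R = 2 * a) : Module.finrank F P = a := by
  have h1 := finrank_le_of_nd hB hR hQ hPQ
  have h2 := finrank_le_of_nd (P := Q) (Q := P) hB hR hP (by rw [sup_comm]; exact hPQ)
  have h3 := Submodule.finrank_sup_add_finrank_inf_eq P Q
  have h4 : P ⊓ Q = ⊥ := by
    rw [Submodule.eq_bot_iff]
    rintro v ⟨hv, hv'⟩
    exact nd_eq_zero hR hPQ (hPQ ▸ Submodule.mem_sup_left hv) (hP v hv) (hQ v hv')
  rw [h4, hPQ, finrank_bot] at h3
  omega

/-- the case `g ≠ 1` on `P` -/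
theorem refl_core (h2 : (2 : F) ≠ 0) (hB : Alt B) {g : V ≃ₗ[F] V} (hg : Iso B g) (hR : Nd B R)
    {a : ℕ} (ha : Module.finrank F R = 2 * (a + 1)) (hP : Orth B P P) (hQ : Orth B Q Q) (hPQ : P ⊔ Q = R)
    (hgP : ∀ v ∈ P, g v - v ∈ Q) (hne : ¬ ∀ v ∈ P, g v = v) : Mix B g a 1 R := by
  have hPR : ∀ v ∈ P, v ∈ R := fun v hv => hPQ ▸ Submodule.mem_sup_left hv
  have hQR : ∀ v ∈ Q, v ∈ R := fun v hv => hPQ ▸ Submodule.mem_sup_right hv
  -- the symmetric form
  have hβ : ∀ u v : V, u ∈ P → v ∈ P → B (g u) v = B (g u - u) v := fun u v hu hv => by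
    rw [map_sub, LinearMap.sub_apply, hP u hu v hv, sub_zero]
  have hsym : ∀ u ∈ P, ∀ v ∈ P, B (g u) v = B (g v) u := by
    intro u hu v hv
    have h3 := hQ _ (hgP u hu) _ (hgP v hv)
    have h4 := hg u v
    have h5 := hP u hu v hv
    simp only [map_sub, LinearMap.sub_apply] at h3
    have h6 := hB.neg u (g v)
    linear_combination h4 - h3 - h6 + 2 * h5
  obtain ⟨v, hv, hvv⟩ : ∃ v ∈ P, B (g v) v ≠ 0 := by
    by_contra hcon
    push Not at hcon
    apply hne
    intro u hu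
    rw [← sub_eq_zero]
    apply nd_eq_zero hR hPQ (hQR _ (hgP u hu)) _ (hQ _ (hgP u hu))
    intro w hw
    rw [← hβ u w hu hw]
    have h3 := hcon (u + w) (P.add_mem hu hw)
    simp only [map_add, LinearMap.add_apply, hcon u hu, hcon w hw, hsym w hw u hu] at h3
    have h4 : 2 * B (g u) w = 0 := by linear_combination h3
    exact (mul_eq_zero.1 h4).resolve_left h2
  obtain ⟨c, hc⟩ : ∃ c, c = 2 / B (g v) v := ⟨_, rfl⟩
  have hc' : c * B (g v) v = 2 := by rw [hc, div_mul_cancel₀ _ hvv]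
  let s : V →ₗ[F] V := c • (B.flip v).smulRight v
  have hs : ∀ w, s w = (c * B w v) • v := fun w => by
    simp only [s, mul_smul, _root_.LinearMap.smul_apply, _root_.LinearMap.coe_smulRight, _root_.LinearMap.BilinForm.flip_apply]
  let Q' : Submodule F V := Q.map (LinearMap.id + s)
  have hQ' : ∀ w ∈ Q, w + s w ∈ Q' := fun w hw => ⟨w, hw, rfl⟩
  let U : Submodule F V := P ⊓ LinearMap.ker (B.flip v ∘ₗ (g : V →ₗ[F] V))
  have hU : ∀ u, u ∈ U ↔ u ∈ P ∧ B (g u) v = 0 := fun u => Iff.rfl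
  have hv0 : v ≠ 0 := by
    rintro rfl
    exact hvv (map_zero _)
  have hUW : U ⊔ Submodule.span F {v} = P := by
    apply le_antisymm
    · exact sup_le inf_le_left ((Submodule.span_singleton_le_iff_mem _ _).2 hv)
    · intro u hu
      rw [Submodule.mem_sup]
      refine ⟨u - (B (g u) v / B (g v) v) • v, ?_, (B (g u) v / B (g v) v) • v,
        Submodule.smul_mem _ _ (Submodule.mem_span_singleton_self v), by abel⟩
      rw [hU]
      refine ⟨P.sub_mem hu (P.smul_mem _ hv), ?_⟩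
      rw [map_sub, map_smul, map_sub, LinearMap.sub_apply, map_smul, LinearMap.smul_apply, smul_eq_mul,
        div_mul_cancel₀ _ hvv, sub_self]
  have hUWi : U ⊓ Submodule.span F {v} = ⊥ := by
    rw [Submodule.eq_bot_iff]
    rintro u ⟨hu, hu'⟩
    obtain ⟨t, rfl⟩ := Submodule.mem_span_singleton.1 hu'
    have h3 := ((hU _).1 hu).2
    rw [map_smul, map_smul, LinearMap.smul_apply, smul_eq_mul] at h3
    rw [(mul_eq_zero.1 h3).resolve_right hvv, zero_smul]
  refine ⟨U, Submodule.span F {v}, Q', ?_, ?_, ?_, ?_, finrank_span_singleton hv0, ?_, ?_⟩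
  · rw [hUW]; exact hP
  · rintro _ ⟨w, hw, rfl⟩ _ ⟨w', hw', rfl⟩
    simp only [LinearMap.add_apply, LinearMap.id_apply, hs, map_add, map_smul, LinearMap.smul_apply, smul_eq_mul,
      hQ w hw w' hw', hP v hv v hv]
    rw [hB.neg v w']
    ring
  · rw [hUW, ← hPQ]
    apply le_antisymm
    · refine sup_le le_sup_left ?_
      rintro _ ⟨w, hw, rfl⟩
      rw [LinearMap.add_apply, LinearMap.id_apply, hs]
      exact Submodule.add_mem _ (Submodule.mem_sup_right hw) (Submodule.mem_sup_left (P.smul_mem _ hv))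
    · refine sup_le le_sup_left ?_
      intro w hw
      have h3 : w = -(s w) + (w + s w) := by abel
      rw [h3]
      refine Submodule.add_mem_sup (P.neg_mem ?_) (hQ' w hw)
      rw [hs]
      exact P.smul_mem _ hv
  · have h3 := Submodule.finrank_sup_add_finrank_inf_eq U (Submodule.span F {v})
    rw [hUW, hUWi, finrank_bot, finrank_span_singleton hv0, finrank_of_nd hB hR hP hQ hPQ ha] at h3
    omega
  · intro u hu
    obtain ⟨hu1, hu2⟩ := (hU u).1 hu
    have h3 := hQ' _ (hgP u hu1)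
    rwa [hs, ← hβ u v hu1 hv, hu2, mul_zero, zero_smul, add_zero] at h3
  · intro u hu
    obtain ⟨t, rfl⟩ := Submodule.mem_span_singleton.1 hu
    have h3 := Q'.smul_mem t (hQ' _ (hgP v hv))
    rw [hs, ← hβ v v hv hv, hc'] at h3
    have h4 : t • (g v - v + (2 : F) • v) = g (t • v) + t • v := by
      rw [map_smul]; module
    rwa [h4] at h3

/-- **box R** -/
theorem reflection : Reflection := by
  intro F V _ _ _ _ h2 B hB g hg R hR hI a ha hC hne
  obtain ⟨P, Q, hP, hQ, hPQ, hgP⟩ := hC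
  by_cases h : ∀ v ∈ P, g v = v
  · -- `g = 1` on `P`: exchange `P` and `Q`
    have hQP : Q ⊔ P = R := by rw [sup_comm]; exact hPQ
    have hQR : ∀ v ∈ Q, v ∈ R := fun v hv => hPQ ▸ Submodule.mem_sup_right hv
    refine refl_core h2 hB hg hR ha hQ hP hQP (fun w hw => ?_) (fun h3 => hne ?_)
    · have h3 : g w - w ∈ R := R.sub_mem (hI w (hQR w hw)) (hQR w hw)
      rw [← hPQ] at h3
      obtain ⟨p, hp, q, hq, e⟩ := Submodule.mem_sup.1 h3
      have hq0 : q = 0 := by
        apply nd_eq_zero hR hPQ (hQR q hq) _ (hQ q hq)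
        intro u hu
        have h4 : B (g w - w) u = 0 := by
          have h5 := hg w u
          rw [h u hu] at h5
          rw [map_sub, LinearMap.sub_apply, h5, sub_self]
        rwa [← e, map_add, LinearMap.add_apply, hP p hp u hu, zero_add] at h4
      rw [← e, hq0, add_zero]
      exact hp
    · intro v hv
      rw [← hPQ] at hv
      obtain ⟨p, hp, q, hq, rfl⟩ := Submodule.mem_sup.1 hv
      rw [map_add, h p hp, h3 q hq]
  · exact refl_core h2 hB hg hR ha hP hQ hPQ hgP h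

end Cfsg.Agent.H140.War
end

-- part: H557/War/JCorner
section
/-!
# S2453 for `PSp_2n(q)`, box J1 (helper557)

* `split` : a hyperbolic pair and its complement;
* `lag` : a nondegenerate subspace of dimension `2 m` is the sum of two totally isotropic ones;
* `jcorner` : **box J1**.
-/

set_option autoImplicit false

namespace Cfsg.Agent.H557.War

open Cfsg.Agent.H144 Cfsg.Agent.H144.War Module

variable {F V : Type*} [Field F] [AddCommGroup V] [Module F V]

theorem mem_span_pair' {e f v : V} (h : v ∈ Submodule.span F ({e, f} : Set V)) : ∃ a b : F, v = a • e + b • f := by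
  obtain ⟨a, b, h⟩ := Submodule.mem_span_pair.1 h
  exact ⟨a, b, h.symm⟩

/-- a hyperbolic pair and its complement -/
theorem split [FiniteDimensional F V] {B : LinearMap.BilinForm F V} (hB : Alt B) {R : Submodule F V} (hR : Nd B R)
    {m : ℕ} (hm : finrank F R = 2 * (m + 1)) :
    ∃ e ∈ R, ∃ f ∈ R, ∃ S ≤ R, B e f = 1 ∧ (∀ v ∈ S, B e v = 0 ∧ B f v = 0) ∧ Nd B S ∧ finrank F S = 2 * m ∧
      Submodule.span F {e, f} ⊔ S = R := by
  have hne : R ≠ ⊥ := by
    rintro rfl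
    rw [finrank_bot] at hm
    omega
  obtain ⟨e, he, he0⟩ := Submodule.exists_mem_ne_zero_of_ne_bot hne
  obtain ⟨w, hw, hw0⟩ : ∃ w ∈ R, B e w ≠ 0 := by
    by_contra h
    push Not at h
    exact he0 (hR e he h)
  set f := (B e w)⁻¹ • w with hf
  have hfR : f ∈ R := R.smul_mem _ hw
  have hef : B e f = 1 := by
    rw [hf, map_smul, smul_eq_mul, inv_mul_cancel₀ hw0]
  have hfe : B f e = -1 := by rw [hB.neg, hef]
  set S : Submodule F V := R ⊓ perp B (Submodule.span F {e, f}) with hS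
  have heS : e ∈ Submodule.span F ({e, f} : Set V) := Submodule.subset_span (by simp)
  have hfS : f ∈ Submodule.span F ({e, f} : Set V) := Submodule.subset_span (by simp)
  have hSv : ∀ v ∈ S, B e v = 0 ∧ B f v = 0 := fun v hv => ⟨hv.2 e heS, hv.2 f hfS⟩
  have hsup : Submodule.span F {e, f} ⊔ S = R := by
    apply le_antisymm
    · refine sup_le (Submodule.span_le.2 ?_) inf_le_left
      rintro x (rfl | rfl)
      · exact he
      · exact hfR
    · intro v hv
      refine Submodule.mem_sup.2 ⟨B v f • e - B v e • f, ?_, v - B v f • e + B v e • f, ⟨?_, ?_⟩, by abel⟩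
      · exact Submodule.sub_mem _ (Submodule.smul_mem _ _ heS) (Submodule.smul_mem _ _ hfS)
      · exact R.add_mem (R.sub_mem hv (R.smul_mem _ he)) (R.smul_mem _ hfR)
      · intro x hx
        obtain ⟨a, b, rfl⟩ := mem_span_pair' hx
        simp only [map_add, map_sub, map_smul, LinearMap.add_apply, LinearMap.smul_apply, smul_eq_mul, hB e, hB f,
          hef, hfe, hB.neg v e, hB.neg v f]
        ring
  have hinf : Submodule.span F {e, f} ⊓ S = ⊥ := by
    rw [eq_bot_iff]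
    rintro v ⟨hv1, hv2⟩
    obtain ⟨a, b, rfl⟩ := mem_span_pair' hv1
    obtain ⟨h1, h2⟩ := hSv _ hv2
    simp only [map_add, map_smul, smul_eq_mul, hB e, hB f, hef, hfe, mul_zero, zero_add, add_zero, mul_one, mul_neg,
      neg_eq_zero] at h1 h2
    rw [h1, h2, zero_smul, zero_smul, add_zero]
    exact Submodule.zero_mem _
  have hli : LinearIndependent F ![e, f] := by
    rw [LinearIndependent.pair_iff]
    intro a b hab
    have h1 := congrArg (B e) hab
    have h2 := congrArg (B f) hab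
    simp only [map_add, map_smul, map_zero, smul_eq_mul, hB e, hB f, hef, hfe, mul_zero, zero_add, add_zero, mul_one,
      mul_neg, neg_eq_zero] at h1 h2
    exact ⟨h2, h1⟩
  have h2 : finrank F (Submodule.span F ({e, f} : Set V)) = 2 := by
    have h3 := finrank_span_eq_card hli
    rw [Fintype.card_fin] at h3
    have h4 : Set.range ![e, f] = {e, f} := Matrix.range_cons_cons_empty e f ![]
    rwa [h4] at h3
  have h3 := Submodule.finrank_sup_add_finrank_inf_eq (Submodule.span F ({e, f} : Set V)) S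
  rw [hsup, hinf, finrank_bot, h2, hm] at h3
  refine ⟨e, he, f, hfR, S, inf_le_left, hef, hSv, ?_, by omega, hsup⟩
  intro v hv hv0
  refine hR v hv.1 fun w hw => ?_
  rw [← hsup] at hw
  obtain ⟨x, hx, y, hy, rfl⟩ := Submodule.mem_sup.1 hw
  obtain ⟨a, b, rfl⟩ := mem_span_pair' hx
  obtain ⟨h4, h5⟩ := hSv v hv
  rw [map_add, hv0 y hy, map_add, map_smul, map_smul, hB.neg v e, hB.neg v f, h4, h5]
  simp

/-- a nondegenerate subspace is the sum of two totally isotropic ones -/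
theorem lag [FiniteDimensional F V] {B : LinearMap.BilinForm F V} (hB : Alt B) {m : ℕ} :
    ∀ {R : Submodule F V}, Nd B R → finrank F R = 2 * m →
      ∃ U Q : Submodule F V, Orth B U U ∧ Orth B Q Q ∧ U ⊔ Q = R ∧ finrank F U = m := by
  induction m with
  | zero =>
    intro R _ h
    have h1 : R = ⊥ := Submodule.finrank_eq_zero.1 (by omega)
    refine ⟨⊥, ⊥, ?_, ?_, by rw [h1, sup_bot_eq], finrank_bot F V⟩ <;>
    · intro x hx y _
      rw [(Submodule.mem_bot F).1 hx, map_zero]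
      rfl
  | succ m ih =>
    intro R hR h
    obtain ⟨e, he, f, hf, S, hS, hef, hSv, hSn, hSf, hsup⟩ := split hB hR h
    obtain ⟨U, Q, hU, hQ, hUQ, hUf⟩ := ih hSn hSf
    have hUS : U ≤ S := hUQ ▸ le_sup_left
    have hQS : Q ≤ S := hUQ ▸ le_sup_right
    refine ⟨Submodule.span F {e} ⊔ U, Submodule.span F {f} ⊔ Q, ?_, ?_, ?_, ?_⟩
    · intro x hx y hy
      obtain ⟨x1, hx1, x2, hx2, rfl⟩ := Submodule.mem_sup.1 hx
      obtain ⟨y1, hy1, y2, hy2, rfl⟩ := Submodule.mem_sup.1 hy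
      obtain ⟨a, rfl⟩ := Submodule.mem_span_singleton.1 hx1
      obtain ⟨b, rfl⟩ := Submodule.mem_span_singleton.1 hy1
      simp only [map_add, map_smul, LinearMap.add_apply, LinearMap.smul_apply, smul_eq_mul, hB e,
        (hSv _ (hUS hy2)).1, hB.neg x2 e, (hSv _ (hUS hx2)).1, hU _ hx2 _ hy2]
      ring
    · intro x hx y hy
      obtain ⟨x1, hx1, x2, hx2, rfl⟩ := Submodule.mem_sup.1 hx
      obtain ⟨y1, hy1, y2, hy2, rfl⟩ := Submodule.mem_sup.1 hy
      obtain ⟨a, rfl⟩ := Submodule.mem_span_singleton.1 hx1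
      obtain ⟨b, rfl⟩ := Submodule.mem_span_singleton.1 hy1
      simp only [map_add, map_smul, LinearMap.add_apply, LinearMap.smul_apply, smul_eq_mul, hB f,
        (hSv _ (hQS hy2)).2, hB.neg x2 f, (hSv _ (hQS hx2)).2, hQ _ hx2 _ hy2]
      ring
    · rw [← hsup, ← hUQ, Submodule.span_insert]
      exact sup_sup_sup_comm _ _ _ _
    · have h1 : Submodule.span F {e} ⊓ U = ⊥ := by
        rw [eq_bot_iff]
        rintro v ⟨hv1, hv2⟩
        obtain ⟨a, rfl⟩ := Submodule.mem_span_singleton.1 hv1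
        have h2 := (hSv _ (hUS hv2)).2
        rw [map_smul, hB.neg, hef, smul_eq_mul, mul_neg, mul_one, neg_eq_zero] at h2
        rw [h2, zero_smul]
        exact Submodule.zero_mem _
      have he0 : e ≠ 0 := by
        rintro rfl
        rw [map_zero] at hef
        exact zero_ne_one hef
      have h3 := Submodule.finrank_sup_add_finrank_inf_eq (Submodule.span F ({e} : Set V)) U
      rw [h1, finrank_bot, finrank_span_singleton he0, hUf] at h3
      omega

/-- **box J1** -/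
theorem jcorner : JCorner := by
  intro F V _ _ _ _ h2 B hB hN g hg R' R₁ s hs hR' hR₁ hO htop h1 hm1
  have hNd' : Nd B R' := by
    intro v hv hv0
    refine hN v fun w => ?_
    have hw : w ∈ R' ⊔ R₁ := by rw [htop]; exact Submodule.mem_top
    obtain ⟨a, ha, b, hb, rfl⟩ := Submodule.mem_sup.1 hw
    rw [map_add, hv0 a ha, hO v hv b hb, add_zero]
  have hNd₁ : Nd B R₁ := by
    intro v hv hv0
    refine hN v fun w => ?_
    have hw : w ∈ R' ⊔ R₁ := by rw [htop]; exact Submodule.mem_top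
    obtain ⟨a, ha, b, hb, rfl⟩ := Submodule.mem_sup.1 hw
    rw [map_add, hv0 b hb, hB.neg, hO a ha v hv, neg_zero, add_zero]
  obtain ⟨e₁, he₁, f₁, hf₁, S, hS, hef₁, hSv, hSn, hSf, hsup⟩ := split hB hNd' (m := s - 2) (by omega)
  obtain ⟨e₂, he₂, f₂, hf₂, S₁, hS₁, hef₂, -, -, hS₁f, hsup₁⟩ := split hB hNd₁ (m := 0) (by omega)
  have hS₁b : S₁ = ⊥ := Submodule.finrank_eq_zero.1 (by omega)
  rw [hS₁b, sup_bot_eq] at hsup₁
  obtain ⟨U, Q, hU, hQ, hUQ, hUf⟩ := lag hB hSn hSf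
  have hUS : U ≤ S := hUQ ▸ le_sup_left
  have hQS : Q ≤ S := hUQ ▸ le_sup_right
  have k1 : B f₁ e₁ = -1 := by rw [hB.neg, hef₁]
  have k2 : B f₂ e₂ = -1 := by rw [hB.neg, hef₂]
  have k3 : ∀ x ∈ R', ∀ y ∈ R₁, B y x = 0 := fun x hx y hy => by rw [hB.neg, hO x hx y hy, neg_zero]
  have hSx : ∀ v ∈ S, B v e₁ = 0 ∧ B v f₁ = 0 ∧ B v e₂ = 0 ∧ B v f₂ = 0 ∧ B e₁ v = 0 ∧ B f₁ v = 0 ∧ B e₂ v = 0 ∧
      B f₂ v = 0 := fun v hv =>
    ⟨by rw [hB.neg, (hSv v hv).1, neg_zero], by rw [hB.neg, (hSv v hv).2, neg_zero], hO v (hS hv) _ he₂,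
      hO v (hS hv) _ hf₂, (hSv v hv).1, (hSv v hv).2, k3 v (hS hv) _ he₂, k3 v (hS hv) _ hf₂⟩
  have hgp : g (e₁ + e₂) = e₁ - e₂ := by rw [map_add, h1 _ he₁, hm1 _ he₂]; abel
  have hgq : g (f₁ - f₂) = f₁ + f₂ := by rw [map_sub, h1 _ hf₁, hm1 _ hf₂]; abel
  refine ⟨U ⊔ Submodule.span F {e₁ + e₂, f₁ - f₂}, Q ⊔ Submodule.span F {e₁ - e₂ - (f₁ - f₂), f₁ + f₂ + (e₁ + e₂)},
    U, e₁ + e₂, ?_, f₁ - f₂, ?_, ?_, ?_, ?_, le_sup_left, hUf, rfl, ?_, ?_, ?_⟩
  · exact Submodule.mem_sup_right (Submodule.subset_span (by simp))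
  · exact Submodule.mem_sup_right (Submodule.subset_span (by simp))
  · intro x hx y hy
    obtain ⟨x1, hx1, x2, hx2, rfl⟩ := Submodule.mem_sup.1 hx
    obtain ⟨y1, hy1, y2, hy2, rfl⟩ := Submodule.mem_sup.1 hy
    obtain ⟨a, b, rfl⟩ := mem_span_pair' hx2
    obtain ⟨c, d, rfl⟩ := mem_span_pair' hy2
    obtain ⟨u1, u2, u3, u4, u5, u6, u7, u8⟩ := hSx _ (hUS hx1)
    obtain ⟨v1, v2, v3, v4, v5, v6, v7, v8⟩ := hSx _ (hUS hy1)
    simp only [map_add, map_sub, map_smul, LinearMap.add_apply, LinearMap.sub_apply, LinearMap.smul_apply, smul_eq_mul,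
      hB e₁, hB e₂, hB f₁, hB f₂, hef₁, hef₂, k1, k2, hO _ he₁ _ he₂, hO _ he₁ _ hf₂, hO _ hf₁ _ he₂, hO _ hf₁ _ hf₂,
      k3 _ he₁ _ he₂, k3 _ he₁ _ hf₂, k3 _ hf₁ _ he₂, k3 _ hf₁ _ hf₂, u1, u2, u3, u4, v5, v6, v7, v8, hU _ hx1 _ hy1]
    ring
  · intro x hx y hy
    obtain ⟨x1, hx1, x2, hx2, rfl⟩ := Submodule.mem_sup.1 hx
    obtain ⟨y1, hy1, y2, hy2, rfl⟩ := Submodule.mem_sup.1 hy
    obtain ⟨a, b, rfl⟩ := mem_span_pair' hx2
    obtain ⟨c, d, rfl⟩ := mem_span_pair' hy2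
    obtain ⟨u1, u2, u3, u4, u5, u6, u7, u8⟩ := hSx _ (hQS hx1)
    obtain ⟨v1, v2, v3, v4, v5, v6, v7, v8⟩ := hSx _ (hQS hy1)
    simp only [map_add, map_sub, map_smul, LinearMap.add_apply, LinearMap.sub_apply, LinearMap.smul_apply, smul_eq_mul,
      hB e₁, hB e₂, hB f₁, hB f₂, hef₁, hef₂, k1, k2, hO _ he₁ _ he₂, hO _ he₁ _ hf₂, hO _ hf₁ _ he₂, hO _ hf₁ _ hf₂,
      k3 _ he₁ _ he₂, k3 _ he₁ _ hf₂, k3 _ hf₁ _ he₂, k3 _ hf₁ _ hf₂, u1, u2, u3, u4, v5, v6, v7, v8, hQ _ hx1 _ hy1]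
    ring
  · set P := U ⊔ Submodule.span F {e₁ + e₂, f₁ - f₂} with hP
    set Q' := Q ⊔ Submodule.span F {e₁ - e₂ - (f₁ - f₂), f₁ + f₂ + (e₁ + e₂)} with hQ'
    have m1 : e₁ + e₂ ∈ P ⊔ Q' := Submodule.mem_sup_left (Submodule.mem_sup_right (Submodule.subset_span (by simp)))
    have m2 : f₁ - f₂ ∈ P ⊔ Q' := Submodule.mem_sup_left (Submodule.mem_sup_right (Submodule.subset_span (by simp)))
    have m3 : e₁ - e₂ - (f₁ - f₂) ∈ P ⊔ Q' :=
      Submodule.mem_sup_right (Submodule.mem_sup_right (Submodule.subset_span (by simp)))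
    have m4 : f₁ + f₂ + (e₁ + e₂) ∈ P ⊔ Q' :=
      Submodule.mem_sup_right (Submodule.mem_sup_right (Submodule.subset_span (by simp)))
    have m5 : e₁ - e₂ ∈ P ⊔ Q' := by
      have := Submodule.add_mem _ m3 m2
      rwa [sub_add_cancel] at this
    have m6 : f₁ + f₂ ∈ P ⊔ Q' := by
      have := Submodule.sub_mem _ m4 m1
      rwa [add_sub_cancel_right] at this
    have half : ∀ a b c : V, a + b = (2 : F) • c → a ∈ P ⊔ Q' → b ∈ P ⊔ Q' → c ∈ P ⊔ Q' := by
      intro a b c e ha hb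
      have := Submodule.smul_mem (P ⊔ Q') (2 : F)⁻¹ (Submodule.add_mem _ ha hb)
      rwa [e, smul_smul, inv_mul_cancel₀ h2, one_smul] at this
    have n1 : e₁ ∈ P ⊔ Q' := half _ _ _ (by rw [two_smul]; abel) m1 m5
    have n2 : f₁ ∈ P ⊔ Q' := half _ _ _ (by rw [two_smul]; abel) m2 m6
    have n3 : e₂ ∈ P ⊔ Q' := by
      have := Submodule.sub_mem _ m1 n1
      rwa [add_sub_cancel_left] at this
    have n4 : f₂ ∈ P ⊔ Q' := by
      have := Submodule.sub_mem _ m6 n2
      rwa [add_sub_cancel_left] at this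
    rw [eq_top_iff, ← htop, ← hsup, ← hsup₁, ← hUQ]
    refine sup_le (sup_le (Submodule.span_le.2 ?_) (sup_le (le_sup_left.trans le_sup_left)
      (le_sup_left.trans le_sup_right))) (Submodule.span_le.2 ?_)
    · rintro x (rfl | rfl)
      · exact n1
      · exact n2
    · rintro x (rfl | rfl)
      · exact n3
      · exact n4
  · intro v hv
    rw [h1 v (hS (hUS hv)), sub_self]
    exact Submodule.zero_mem _
  · rw [hgp]
    exact Submodule.mem_sup_right (Submodule.subset_span (by simp))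
  · rw [hgq]
    exact Submodule.mem_sup_right (Submodule.subset_span (by simp))

end Cfsg.Agent.H557.War
end

-- part: H950/War/JBlock
section
/-!
# S2453, `PSp`: the box `JBlock` (helper950)
-/

set_option autoImplicit false
set_option linter.unusedSectionVars false

noncomputable section

namespace Cfsg.Agent.H950.War.JB

open Polynomial Module Cfsg.Agent.H144 Cfsg.Agent.H144.War

section ep
variable {F K V : Type*} [Field F] [Field K] [Algebra F K] [FiniteDimensional F K] [AddCommGroup V] [Module F V]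

theorem adjoin_top {ξ : K} (hd : (minpoly F ξ).natDegree = finrank F K) : Algebra.adjoin F {ξ} = ⊤ := by
  have hint : IsIntegral F ξ := Algebra.IsIntegral.isIntegral _
  have h1 : IntermediateField.adjoin F {ξ} = ⊤ := by
    apply IntermediateField.eq_of_le_of_finrank_eq le_top
    rw [IntermediateField.adjoin.finrank hint, hd, IntermediateField.finrank_top']
  rw [← IntermediateField.adjoin_simple_toSubalgebra_of_isAlgebraic hint.isAlgebraic, h1]
  rfl

/-- the automorphism given by a unit -/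
def toE {R : Type*} [Ring R] [Algebra F R] (ρ : R →ₐ[F] Module.End F V) (k : Rˣ) : V ≃ₗ[F] V :=
  LinearMap.GeneralLinearGroup.generalLinearEquiv F V (Units.map (ρ : R →* Module.End F V) k)

theorem coe_toE {R : Type*} [Ring R] [Algebra F R] (ρ : R →ₐ[F] Module.End F V) (k : Rˣ) :
    ((toE ρ k : V ≃ₗ[F] V) : Module.End F V) = ρ k := by
  ext v
  rfl

theorem toE_pow {R : Type*} [Ring R] [Algebra F R] (ρ : R →ₐ[F] Module.End F V) (k : Rˣ) (n : ℕ) :
    toE ρ (k ^ n) = toE ρ k ^ n := by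
  rw [toE, map_pow, map_pow]
  rfl

theorem toE_one {R : Type*} [Ring R] [Algebra F R] (ρ : R →ₐ[F] Module.End F V) : toE ρ 1 = 1 := by
  rw [toE, map_one, map_one]

theorem toE_inv {R : Type*} [Ring R] [Algebra F R] (ρ : R →ₐ[F] Module.End F V) (k : Rˣ) :
    toE ρ k⁻¹ = (toE ρ k)⁻¹ := by
  rw [toE, map_inv, map_inv]
  rfl

theorem apply_eq_zero (ρ : K →ₐ[F] Module.End F V) {k : K} (hk : k ≠ 0) {v : V} (h : ρ k v = 0) : v = 0 := by
  have h1 : ρ k⁻¹ (ρ k v) = v := by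
    rw [← Module.End.mul_apply, ← map_mul, inv_mul_cancel₀ hk, map_one, Module.End.one_apply]
  rw [← h1, h, map_zero]

/-- **good elements** -/
theorem ep_of_aeval {p e N : ℕ} (hN : N.Coprime p) {ζ : K} (h0 : ζ ≠ 0) (hζ : ζ ^ N = 1)
    (hd : (minpoly F (ζ ^ e)).natDegree = finrank F K) (h1 : aeval (ζ ^ e)⁻¹ (minpoly F (ζ ^ e)) ≠ 0)
    (h2 : aeval (ζ ^ e) (minpoly F (ζ ^ e)⁻¹) ≠ 0) {x : V ≃ₗ[F] V}
    (hx : aeval (x : Module.End F V) (minpoly F (ζ ^ e)) = 0) : EP p e x := by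
  have hint : IsIntegral F (ζ ^ e) := Algebra.IsIntegral.isIntegral _
  let pb := PowerBasis.ofAdjoinEqTop hint (adjoin_top hd)
  have hgen : pb.gen = ζ ^ e := PowerBasis.ofAdjoinEqTop_gen _ _
  let ρ : K →ₐ[F] Module.End F V := pb.lift (x : Module.End F V) (by rw [hgen]; exact hx)
  have hρ : ρ (ζ ^ e) = (x : Module.End F V) := by
    rw [← hgen]
    exact pb.lift_gen _ _
  let u : Kˣ := Units.mk0 ζ h0
  have hxe : toE ρ (u ^ e) = x := by
    apply LinearEquiv.toLinearMap_injective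
    rw [coe_toE, Units.val_pow_eq_pow_val]
    exact hρ
  have hxi : ((x⁻¹ : V ≃ₗ[F] V) : Module.End F V) = ρ (ζ ^ e)⁻¹ := by
    rw [← hxe, ← toE_inv, coe_toE, Units.val_inv_eq_inv_val, Units.val_pow_eq_pow_val]
    rfl
  refine ⟨⟨toE ρ u, N, hN, ?_, ?_⟩, minpoly F (ζ ^ e), minpoly F (ζ ^ e)⁻¹, ?_, ?_, ?_, ?_⟩
  · rw [← toE_pow, show u ^ N = 1 from Units.ext hζ, toE_one]
  · rw [← toE_pow, hxe]
  · intro v
    rw [hx, LinearMap.zero_apply]
  · intro v hv
    rw [hxi, aeval_algHom_apply] at hv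
    exact apply_eq_zero ρ h1 hv
  · intro v
    rw [hxi, aeval_algHom_apply, minpoly.aeval, map_zero, LinearMap.zero_apply]
  · intro v hv
    rw [← hρ, aeval_algHom_apply] at hv
    exact apply_eq_zero ρ h2 hv

end ep

section main
variable {F K : Type*} [Field F] [Field K] [Algebra F K] [FiniteDimensional F K]

theorem exists_d {ξ : K} (h0 : ξ ≠ 0) (hdeg : 3 ≤ (minpoly F ξ).natDegree) {c : K →ₗ[F] F} (hc : c ≠ 0)
    (α β γ : F) : ∃ d : K, c d = α ∧ c (ξ * d) = β ∧ c (ξ⁻¹ * d) = γ := by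
  let T : K →ₗ[F] F × F × F := c.prod ((c ∘ₗ LinearMap.mulLeft F ξ).prod (c ∘ₗ LinearMap.mulLeft F ξ⁻¹))
  have hT : LinearMap.range T = ⊤ := by
    by_contra hne
    obtain ⟨f, hf0, hf⟩ := Submodule.exists_le_ker_of_lt_top _ (lt_top_iff_ne_top.2 hne)
    have key : ∀ d : K, f (1, 0, 0) * c d + f (0, 1, 0) * c (ξ * d) + f (0, 0, 1) * c (ξ⁻¹ * d) = 0 := by
      intro d
      have h1 : f (T d) = 0 := hf ⟨d, rfl⟩
      have h2 : T d = c d • ((1, 0, 0) : F × F × F) + c (ξ * d) • ((0, 1, 0) : F × F × F) +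
          c (ξ⁻¹ * d) • ((0, 0, 1) : F × F × F) := by
        ext <;> simp only [T, _root_.LinearMap.prod_apply, _root_.Function.prod_apply, _root_.LinearMap.coe_comp, _root_.Function.comp_apply, _root_.LinearMap.mulLeft_apply, _root_.Prod.smul_mk, _root_.smul_eq_mul, _root_.mul_one, _root_.MulZeroClass.mul_zero, _root_.Prod.mk_add_mk, _root_.add_zero, _root_.zero_add]
      rw [h2, map_add, map_add, map_smul, map_smul, map_smul] at h1
      simp only [smul_eq_mul] at h1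
      linear_combination h1
    obtain ⟨μ, hμ⟩ : ∃ μ : K, μ = algebraMap F K (f (1, 0, 0)) + algebraMap F K (f (0, 1, 0)) * ξ +
        algebraMap F K (f (0, 0, 1)) * ξ⁻¹ := ⟨_, rfl⟩
    have key2 : ∀ d : K, c (μ * d) = 0 := by
      intro d
      have h1 : μ * d = f (1, 0, 0) • d + f (0, 1, 0) • (ξ * d) + f (0, 0, 1) • (ξ⁻¹ * d) := by
        rw [hμ, Algebra.smul_def, Algebra.smul_def, Algebra.smul_def]
        ring
      rw [h1, map_add, map_add, map_smul, map_smul, map_smul]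
      exact key d
    have hμ0 : μ = 0 := by
      by_contra hne
      apply hc
      ext k
      rw [LinearMap.zero_apply, ← key2 (μ⁻¹ * k), mul_inv_cancel_left₀ hne]
    have hP : aeval ξ (C (f (0, 1, 0)) * X ^ 2 + C (f (1, 0, 0)) * X + C (f (0, 0, 1))) = 0 := by
      rw [map_add, map_add, map_mul, map_mul, map_pow, aeval_X, aeval_C, aeval_C, aeval_C]
      have h1 : ξ * μ = 0 := by rw [hμ0, mul_zero]
      rw [hμ] at h1
      have h2 : ξ * ξ⁻¹ = 1 := mul_inv_cancel₀ h0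
      linear_combination h1 - algebraMap F K (f (0, 0, 1)) * h2
    have hP0 : C (f (0, 1, 0)) * X ^ 2 + C (f (1, 0, 0)) * X + C (f (0, 0, 1)) = 0 := by
      by_contra hne
      have h1 := natDegree_le_natDegree (minpoly.degree_le_of_ne_zero F ξ hne hP)
      have h2 := natDegree_quadratic_le (a := f (0, 1, 0)) (b := f (1, 0, 0)) (c := f (0, 0, 1))
      omega
    apply hf0
    have c0 := congrArg (fun P => coeff P 0) hP0
    have c1 := congrArg (fun P => coeff P 1) hP0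
    have c2 := congrArg (fun P => coeff P 2) hP0
    simp only [coeff_add, coeff_C_mul, coeff_X_pow, coeff_X, coeff_C, coeff_zero] at c0 c1 c2
    norm_num only [_root_.ite_false, _root_.MulZeroClass.mul_zero, _root_.add_zero, _root_.ite_true, _root_.zero_add, _root_.mul_one] at c0 c1 c2
    refine LinearMap.ext fun t => ?_
    have h2 : t = t.1 • ((1, 0, 0) : F × F × F) + t.2.1 • ((0, 1, 0) : F × F × F) +
        t.2.2 • ((0, 0, 1) : F × F × F) := by
      ext <;> simp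
    rw [h2, map_add, map_add, map_smul, map_smul, map_smul, c0, c1, c2, LinearMap.zero_apply, smul_zero, smul_zero,
      smul_zero, add_zero, add_zero]
  obtain ⟨d, hd⟩ : (α, β, γ) ∈ LinearMap.range T := by rw [hT]; trivial
  refine ⟨d, ?_, ?_, ?_⟩
  · exact congrArg Prod.fst hd
  · exact congrArg (fun t => t.2.1) hd
  · exact congrArg (fun t => t.2.2) hd

/-- transvections -/
def tv {V : Type*} [AddCommGroup V] [Module F V] (c : V →ₗ[F] F) (d : V) (h : c d = 0) : V ≃ₗ[F] V :=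
  LinearEquiv.ofLinearMap (LinearMap.id + c.smulRight d) (LinearMap.id - c.smulRight d)
    (by ext v; simp [h]) (by ext v; simp [h])

theorem tv_apply {V : Type*} [AddCommGroup V] [Module F V] (c : V →ₗ[F] F) (d : V) (h : c d = 0) (v : V) :
    tv c d h v = v + c v • d := rfl

end main

/-- two decompositions -/
theorem exists_conj {F V K : Type*} [Field F] [AddCommGroup V] [Module F V] [FiniteDimensional F V] [AddCommGroup K]
    [Module F K] [FiniteDimensional F K] {s : ℕ} (hs : 2 ≤ s) (hV : finrank F V = s) (hK : finrank F K = s)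
    {U : Submodule F V} (hU : finrank F U = s - 2) {p₁ p₂ : V} (hUp : U ⊔ Submodule.span F {p₁, p₂} = ⊤)
    {U' : Submodule F K} (hU' : s - 2 ≤ finrank F U') {q₁ q₂ : K}
    (hind : ∀ u ∈ U', ∀ x y : F, u + (x • q₁ + y • q₂) = 0 → u = 0 ∧ x = 0 ∧ y = 0) :
    ∃ φ : V ≃ₗ[F] K, (∀ u ∈ U, φ u ∈ U') ∧ φ p₁ = q₁ ∧ φ p₂ = q₂ := by
  let T : (U × F × F) →ₗ[F] V := U.subtype.coprod ((LinearMap.toSpanSingleton F V p₁).coprod
    (LinearMap.toSpanSingleton F V p₂))
  let T' : (U' × F × F) →ₗ[F] K := U'.subtype.coprod ((LinearMap.toSpanSingleton F K q₁).coprod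
    (LinearMap.toSpanSingleton F K q₂))
  have hT : ∀ (u : U) (x y : F), T (u, x, y) = u + (x • p₁ + y • p₂) := fun u x y => rfl
  have hT' : ∀ (u : U') (x y : F), T' (u, x, y) = u + (x • q₁ + y • q₂) := fun u x y => rfl
  have hsurj : Function.Surjective T := by
    intro v
    have h1 : v ∈ U ⊔ Submodule.span F {p₁, p₂} := by rw [hUp]; trivial
    obtain ⟨u, hu, w, hw, rfl⟩ := Submodule.mem_sup.1 h1
    obtain ⟨x, y, rfl⟩ := Submodule.mem_span_pair.1 hw
    exact ⟨(⟨u, hu⟩, x, y), rfl⟩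
  have hf1 : finrank F (U × F × F) = s := by
    rw [finrank_prod, finrank_prod, finrank_self, hU]
    omega
  have hinj : Function.Injective T :=
    (LinearMap.injective_iff_surjective_of_finrank_eq_finrank (by rw [hf1, hV])).2 hsurj
  have hinj' : Function.Injective T' := by
    rw [← LinearMap.ker_eq_bot, LinearMap.ker_eq_bot']
    rintro ⟨u, x, y⟩ h
    obtain ⟨h1, h2, h3⟩ := hind u u.2 x y h
    ext
    · exact h1
    · exact h2
    · exact h3
  have hf2 : finrank F (U' × F × F) = finrank F U' + 2 := by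
    rw [finrank_prod, finrank_prod, finrank_self]
  have hf3 := LinearMap.finrank_le_finrank_of_injective hinj'
  have hf4 : finrank F U' = s - 2 := by omega
  have hsurj' : Function.Surjective T' :=
    (LinearMap.injective_iff_surjective_of_finrank_eq_finrank (by omega)).1 hinj'
  let θ : U ≃ₗ[F] U' := LinearEquiv.ofFinrankEq U U' (by rw [hU, hf4])
  let ET : (U × F × F) ≃ₗ[F] V := LinearEquiv.ofBijective T ⟨hinj, hsurj⟩
  let ET' : (U' × F × F) ≃ₗ[F] K := LinearEquiv.ofBijective T' ⟨hinj', hsurj'⟩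
  have hET : ∀ t, ET t = T t := fun t => rfl
  have hET' : ∀ t, ET' t = T' t := fun t => rfl
  let φ : V ≃ₗ[F] K := ET.symm.trans ((θ.prodCongr (LinearEquiv.refl F (F × F))).trans ET')
  have hφ : ∀ (u : U) (x y : F), φ (T (u, x, y)) = T' (θ u, x, y) := by
    intro u x y
    show ET' ((θ.prodCongr (LinearEquiv.refl F (F × F))) (ET.symm (ET (u, x, y)))) = _
    rw [ET.symm_apply_apply]
    rfl
  refine ⟨φ, ?_, ?_, ?_⟩
  · intro u hu
    have h1 := hφ ⟨u, hu⟩ 0 0
    rw [hT, hT'] at h1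
    simp only [zero_smul, add_zero] at h1
    rw [h1]
    exact (θ ⟨u, hu⟩).2
  · have h1 := hφ 0 1 0
    rw [hT, hT'] at h1
    simpa using h1
  · have h1 := hφ 0 0 1
    rw [hT, hT'] at h1
    simpa only [_root_.ZeroMemClass.coe_zero, _root_.zero_smul, _root_.one_smul, _root_.zero_add, _root_.map_zero] using h1

/-- **the block, dimension at least three** -/
theorem fac_three {F V K : Type*} [Field F] [AddCommGroup V] [Module F V] [FiniteDimensional F V] [Field K]
    [Algebra F K] [FiniteDimensional F K] (hF2 : (2 : F) ≠ 0) {s : ℕ} (hs : 3 ≤ s) (hV : finrank F V = s) (hK : finrank F K = s)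
    {p e N : ℕ} (hN : N.Coprime p) {ζ : K} (h0 : ζ ≠ 0) (hζ : ζ ^ N = 1)
    (hd : (minpoly F (ζ ^ e)).natDegree = s) (h1 : aeval (ζ ^ e)⁻¹ (minpoly F (ζ ^ e)) ≠ 0)
    (h2 : aeval (ζ ^ e) (minpoly F (ζ ^ e)⁻¹) ≠ 0) {U : Submodule F V}
    (hU : finrank F U = s - 2) {A : V ≃ₗ[F] V} (hA : ∀ v ∈ U, A v = v) {p₁ p₂ : V} (hp₁ : A p₁ = p₂)
    (hp₂ : A p₂ = -p₁) (hUp : U ⊔ Submodule.span F {p₁, p₂} = ⊤) : Fac p e A := by
  have hξ0 : ζ ^ e ≠ 0 := pow_ne_zero _ h0
  obtain ⟨c, hc⟩ : ∃ c : K →ₗ[F] F, c ≠ 0 := by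
    by_contra hcon
    push Not at hcon
    exact one_ne_zero ((Module.forall_dual_apply_eq_zero_iff F (1 : K)).1 (fun φ => by
      rw [hcon φ, LinearMap.zero_apply]))
  obtain ⟨d, d0, d1, d2⟩ := exists_d hξ0 (by rw [hd]; exact hs) hc (0 : F) 1 2
  let ρ : K →ₐ[F] Module.End F K := Algebra.lmul F K
  let ξ : Kˣ := Units.mk0 (ζ ^ e) hξ0
  let Z : K ≃ₗ[F] K := toE ρ ξ
  have hZ : EP p e Z := by
    apply ep_of_aeval hN h0 hζ (by rw [hd, hK]) h1 h2
    rw [show ((Z : K ≃ₗ[F] K) : Module.End F K) = ρ (ζ ^ e) from coe_toE ρ ξ, aeval_algHom_apply, minpoly.aeval,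
      map_zero]
  have hZi : ∀ v : K, Z⁻¹ v = (ζ ^ e)⁻¹ * v := by
    intro v
    rw [show Z⁻¹ = toE ρ ξ⁻¹ from (toE_inv ρ ξ).symm]
    rfl
  have hZv : ∀ v : K, Z v = ζ ^ e * v := fun v => rfl
  let φ : K ≃ₗ[F] K := tv c d d0
  let Xm : K ≃ₗ[F] K := tr φ.symm Z
  have hX : EP p e Xm := hZ.conj _
  have hXv : ∀ v, Xm v = φ (ζ ^ e * (v - c v • d)) := fun v => rfl
  have hfac : Fac p e (Xm * Z⁻¹) := ⟨Xm, Z⁻¹, hX, hZ.inv, fun v => rfl⟩
  have hA' : ∀ v, (Xm * Z⁻¹) v = v + c v • d - c ((ζ ^ e)⁻¹ * v) • (ζ ^ e * d + d) := by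
    intro v
    rw [LinearEquiv.mul_apply, hXv, hZi, tv_apply, mul_sub, mul_inv_cancel_left₀ hξ0, mul_smul_comm, map_sub,
      map_smul, d1]
    simp only [smul_eq_mul, mul_one, sub_smul, smul_add]
    abel
  obtain ⟨q, hq⟩ : ∃ q, q = ζ ^ e * d + d := ⟨_, rfl⟩
  rw [← hq] at hA'
  have cq : c q = 1 := by rw [hq, map_add, d1, d0, add_zero]
  have cq' : c ((ζ ^ e)⁻¹ * q) = 2 := by
    rw [hq, mul_add, inv_mul_cancel_left₀ hξ0, map_add, d0, d2, zero_add]
  let c' : K →ₗ[F] F := c ∘ₗ LinearMap.mulLeft F (ζ ^ e)⁻¹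
  have hc' : ∀ v, c' v = c ((ζ ^ e)⁻¹ * v) := fun v => rfl
  obtain ⟨φ', hφU, hφ₁, hφ₂⟩ := exists_conj (by omega) hV hK hU hUp (U' := LinearMap.ker c ⊓ LinearMap.ker c')
    (q₁ := d) (q₂ := d - (2 : F) • q) (by
      have e1 := LinearMap.finrank_range_add_finrank_ker (c.prod c')
      have e2 : finrank F (LinearMap.range (c.prod c')) ≤ finrank F (F × F) := Submodule.finrank_le _
      rw [finrank_prod, finrank_self] at e2
      rw [LinearMap.ker_prod] at e1
      omega) (by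
      rintro u ⟨k1, k2⟩ x y h
      have k1' : c u = 0 := k1
      have k2' : c' u = 0 := k2
      have e1 := congrArg c h
      have e2 := congrArg c' h
      simp only [map_add, map_smul, map_sub, map_zero, smul_eq_mul, k1', k2', d0, cq, hc' d, hc' q, d2, cq'] at e1 e2
      have hy : y = 0 := by
        have : (2 : F) * y = 0 := by linear_combination -e1
        exact (mul_eq_zero.1 this).resolve_left hF2
      have hx : x = 0 := by
        have : (2 : F) * x = 0 := by linear_combination e2 + 2 * hy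
        exact (mul_eq_zero.1 this).resolve_left hF2
      subst hx hy
      simp only [zero_smul, add_zero] at h
      exact ⟨h, rfl, rfl⟩)
  refine hfac.conj φ' (fun v => ?_)
  have hv : v ∈ U ⊔ Submodule.span F {p₁, p₂} := by rw [hUp]; trivial
  obtain ⟨u, hu, w, hw, rfl⟩ := Submodule.mem_sup.1 hv
  obtain ⟨x, y, rfl⟩ := Submodule.mem_span_pair.1 hw
  obtain ⟨k1, k2⟩ := hφU u hu
  have k1' : c (φ' u) = 0 := k1
  have k2' : c' (φ' u) = 0 := k2
  have e0 : φ' (u + (x • p₁ + y • p₂)) = φ' u + (x • d + y • (d - (2 : F) • q)) := by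
    simp only [map_add, map_smul, hφ₁, hφ₂]
  have e1 : c (φ' (u + (x • p₁ + y • p₂))) = -(2 * y) := by
    rw [e0]
    simp only [map_add, map_smul, map_sub, k1', d0, cq, smul_eq_mul]
    ring
  have e2 : c' (φ' (u + (x • p₁ + y • p₂))) = 2 * x - 2 * y := by
    rw [e0]
    simp only [map_add, map_smul, map_sub, k2', hc' d, hc' q, d2, cq', smul_eq_mul]
    ring
  rw [hA', ← hc', e1, e2, e0]
  simp only [map_add, map_smul, map_neg, hA u hu, hp₁, hp₂, hφ₁, hφ₂]
  module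

/-- **the block, dimension two** -/
theorem fac_two {F V K : Type*} [Field F] [Finite F] [AddCommGroup V] [Module F V] [FiniteDimensional F V] [Field K]
    [Algebra F K] [FiniteDimensional F K] (hF2 : (2 : F) ≠ 0) (hV : finrank F V = 2) (hK : finrank F K = 2)
    {p e N : ℕ} (hN : N.Coprime p) {ζ : K} (h0 : ζ ≠ 0) (hζ : ζ ^ N = 1)
    (hd : (minpoly F (ζ ^ e)).natDegree = 2) (h1 : aeval (ζ ^ e)⁻¹ (minpoly F (ζ ^ e)) ≠ 0)
    (h2 : aeval (ζ ^ e) (minpoly F (ζ ^ e)⁻¹) ≠ 0) {A : V ≃ₗ[F] V} {p₁ p₂ : V} (hp₁ : A p₁ = p₂)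
    (hp₂ : A p₂ = -p₁) (hUp : Submodule.span F {p₁, p₂} = ⊤) : Fac p e A := by
  have hint : IsIntegral F (ζ ^ e) := Algebra.IsIntegral.isIntegral _
  have hξ0 : ζ ^ e ≠ 0 := pow_ne_zero _ h0
  obtain ⟨g, hg⟩ : ∃ g, g = minpoly F (ζ ^ e) := ⟨_, rfl⟩
  have hgm : g.Monic := hg ▸ minpoly.monic hint
  have hgd : g.natDegree = 2 := by rw [hg, hd]
  have hg0 : g.coeff 0 ≠ 0 := by
    rw [hg]
    exact minpoly.coeff_zero_ne_zero hint hξ0
  have hgq : g = X ^ 2 + C (g.coeff 1) * X + C (g.coeff 0) := by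
    have e1 := g.as_sum_range_C_mul_X_pow
    rw [hgd] at e1
    have e2 : g.coeff 2 = 1 := by
      have := hgm.coeff_natDegree
      rwa [hgd] at this
    conv_lhs => rw [e1]
    simp only [Finset.sum_range_succ, Finset.sum_range_zero, e2, C_1, pow_zero, pow_one]
    ring
  obtain ⟨τ, hτ⟩ : ∃ τ, τ = -g.coeff 1 := ⟨_, rfl⟩
  obtain ⟨h, hh⟩ : ∃ h, τ = 2 * h := ⟨2⁻¹ * τ, (mul_inv_cancel_left₀ hF2 τ).symm⟩
  obtain ⟨a0, b0, hab⟩ := exists_sq_add_sq hF2 (2 * h ^ 2 - g.coeff 0)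
  obtain ⟨a, ha⟩ : ∃ a, a = a0 + h := ⟨_, rfl⟩
  obtain ⟨u, hu⟩ : ∃ u, u = b0 - h := ⟨_, rfl⟩
  have hdet : a * (τ - a) - (τ + u) * u = g.coeff 0 := by
    rw [ha, hu, hh]
    linear_combination (-1 : F) * hab
  -- the basis
  have hli : LinearIndependent F ![p₁, p₂] := by
    apply linearIndependent_of_top_le_span_of_card_eq_finrank
    · rw [Matrix.range_cons_cons_empty, hUp]
    · rw [Fintype.card_fin, hV]
  let b : Basis (Fin 2) F V := basisOfLinearIndependentOfCardEqFinrank hli (by rw [Fintype.card_fin, hV])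
  have hb0 : b 0 = p₁ := by simp [b]
  have hb1 : b 1 = p₂ := by simp [b]
  let ρ : Matrix (Fin 2) (Fin 2) F →ₐ[F] Module.End F V := (Matrix.toLinAlgEquiv b).toAlgHom
  have hρ : ∀ (M : Matrix (Fin 2) (Fin 2) F) (j : Fin 2), ρ M (b j) = M 0 j • p₁ + M 1 j • p₂ := by
    intro M j
    have h3 := Matrix.toLinAlgEquiv_self b M j
    rw [Fin.sum_univ_two, hb0, hb1] at h3
    exact h3
  have good : ∀ M : Matrix (Fin 2) (Fin 2) F, M.trace = τ → M.det = g.coeff 0 →
      ∃ x : V ≃ₗ[F] V, EP p e x ∧ (x : Module.End F V) = ρ M := by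
    intro M ht hdM
    let m : GL (Fin 2) F := Matrix.GeneralLinearGroup.mkOfDetNeZero M (by rw [hdM]; exact hg0)
    refine ⟨toE ρ m, ?_, coe_toE ρ m⟩
    apply ep_of_aeval hN h0 hζ (by rw [hd, hK]) h1 h2
    rw [coe_toE, aeval_algHom_apply, ← hg]
    have h3 : M.charpoly = g := by
      rw [Matrix.charpoly_fin_two, ht, hdM, hτ]
      conv_rhs => rw [hgq]
      rw [C_neg]
      ring
    have h4 : aeval M g = 0 := by rw [← h3]; exact Matrix.aeval_self_charpoly M
    have h5 : ((m : GL (Fin 2) F) : Matrix (Fin 2) (Fin 2) F) = M := rfl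
    rw [h5, h4, map_zero]
  obtain ⟨z, hz, hz'⟩ := good !![a, τ + u; u, τ - a] (by simp [Matrix.trace_fin_two]) (by
    rw [Matrix.det_fin_two_of]; exact hdet)
  obtain ⟨x, hx, hx'⟩ := good !![-u, -(τ - a); a, τ + u] (by simp [Matrix.trace_fin_two]) (by
    rw [Matrix.det_fin_two_of, ← hdet]; ring)
  refine ⟨x, z⁻¹, hx, hz.inv, ?_⟩
  have key : (A : Module.End F V) * (z : Module.End F V) = (x : Module.End F V) := by
    rw [hz', hx']
    apply b.ext
    intro j
    rw [Module.End.mul_apply, hρ, hρ]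
    simp only [map_add, map_smul, LinearEquiv.coe_coe, hp₁, hp₂]
    fin_cases j
    · simp only [_root_.Fin.isValue, _root_.Fin.zero_eta, _root_.Matrix.of_apply, _root_.Matrix.cons_val', _root_.Matrix.cons_val_zero, _root_.Matrix.cons_val_fin_one, _root_.Matrix.cons_val_one, _root_.smul_neg, _root_.neg_sub, _root_.neg_smul]
      module
    · simp only [_root_.Fin.isValue, _root_.Fin.mk_one, _root_.Matrix.of_apply, _root_.Matrix.cons_val', _root_.Matrix.cons_val_one, _root_.Matrix.cons_val_fin_one, _root_.Matrix.cons_val_zero, _root_.smul_neg, _root_.neg_sub]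
      module
  intro v
  have h3 := LinearMap.congr_fun key (z⁻¹ v)
  rw [Module.End.mul_apply] at h3
  have h4 : (z : Module.End F V) (z⁻¹ v) = v := app_inv z v
  rw [h4] at h3
  exact h3

theorem coprime_card {F : Type*} [Field F] [Finite F] {p : ℕ} [CharP F p] {s : ℕ} (hs : s ≠ 0) :
    (Nat.card F ^ s - 1).Coprime p := by
  have _ : Fintype F := Fintype.ofFinite F
  have hpp : p.Prime := (CharP.char_is_prime_or_zero F p).resolve_right (CharP.char_ne_zero_of_finite F p)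
  rw [Nat.coprime_comm, hpp.coprime_iff_not_dvd]
  intro h2
  have h3 : p ∣ Nat.card F := by
    rw [Nat.card_eq_fintype_card]
    have := FiniteField.cast_card_eq_zero F
    exact (CharP.cast_eq_zero_iff F p _).1 this
  have h4 : p ∣ Nat.card F ^ s := h3.trans (dvd_pow_self _ hs)
  have h5 : 1 < Nat.card F ^ s := Nat.one_lt_pow hs Finite.one_lt_card
  have h6 : p ∣ 1 := by
    have := Nat.dvd_sub h4 h2
    rwa [show Nat.card F ^ s - (Nat.card F ^ s - 1) = 1 by omega] at this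
  exact hpp.one_lt.ne' (Nat.dvd_one.1 h6)

/-- **box J2** -/
theorem jBlock : JBlock := by
  intro F V _ _ _ _ _ hF2 p e s _ hs he hlt hV U hU A hA p₁ p₂ hp₁ hp₂ hUp
  obtain ⟨K, _, _, _, hK, ζ, h0, hζ, hd, h1, h2⟩ := H143.War.existsXi F hs he hlt
  have hN : (Nat.card F ^ s - 1).Coprime p := coprime_card (by omega)
  rcases Nat.lt_or_ge 2 s with h3 | h3
  · exact fac_three hF2 h3 hV hK hN h0 hζ hd h1 h2 hU hA hp₁ hp₂ hUp
  · obtain rfl : s = 2 := by omega
    have hU0 : U = ⊥ := Submodule.finrank_eq_zero.1 hU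
    rw [hU0, bot_sup_eq] at hUp
    exact fac_two hF2 hV hK hN h0 hζ hd h1 h2 hp₁ hp₂ hUp

end Cfsg.Agent.H950.War.JB
end
end

-- part: H144/War/KlPsp
section
/-!
# The row `PSp_2m(q)` of S2453

`ss_psp` : `SS p e (PSp m F)`;  `kl_psp` : the row.
-/

set_option autoImplicit false

namespace Cfsg.Agent.H144.War

open Cfsg Cfsg.Agent.H130.War Cfsg.Agent.H955 Cfsg.Agent.ClassicalGeometry.SympBasic

theorem coprime_orderOf {G : Type*} [Group G] {x : G} {N p : ℕ} (h : x ^ N = 1) (hN : N.Coprime p) :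
    (orderOf x).Coprime p := Nat.Coprime.coprime_dvd_left (orderOf_dvd_of_pow_eq_one h) hN

theorem ss_psp {F : Type} [Field F] [Finite F] {m p e : ℕ} [CharP F p] (hm : 2 ≤ m) (he : 1 ≤ e)
    (hnum : e * (Nat.card F ^ (m / 2) + 1) < Nat.card F ^ m - 1)
    (hnum' : (2 : F) ≠ 0 → Even m → 3 ≤ m / 2 → e * (Nat.card F ^ (m / 2 / 2) + 1) < Nat.card F ^ (m / 2) - 1) :
    SS p e (PSp m F) := by
  have hS := isSp_sympBilin m F
  have hV : Module.finrank F (Fin m ⊕ Fin m → F) = 2 * m := by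
    rw [Module.finrank_fintype_fun_eq_card, Fintype.card_sum, Fintype.card_fin]
    ring
  refine SS.of_lift (f := AH.pj m F) fun t => ?_
  obtain ⟨g, rfl⟩ := AH.pj_surj t
  have key : ∀ g' : AH.Gm m F, Pw (sympBilin m F) p e g'.1 → ∃ x y : AH.Gm m F, g' = x ^ e * y ^ e ∧
      (orderOf x).Coprime p ∧ (orderOf y).Coprime p := by
    rintro g' ⟨x, y, N, hx, hy, hN, hxN, hyN, hxy⟩
    refine ⟨⟨x, hx⟩, ⟨y, hy⟩, Subtype.ext hxy, coprime_orderOf (N := N) (Subtype.ext hxN) hN,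
      coprime_orderOf (N := N) (Subtype.ext hyN) hN⟩
  rcases pw_or Cfsg.Agent.H140.War.reflection Cfsg.Agent.H557.War.jcorner Cfsg.Agent.H950.War.JB.jBlock
    Cfsg.Agent.H143.War.Mix.mixCore Cfsg.Agent.H143.War.existsXi (B := sympBilin m F) hS.alt hS.nd (p := p) hm he hnum
    hnum' hV (g := g.1) g.2 with h | h
  · exact ⟨g, rfl, key g h⟩
  · refine ⟨⟨ng g.1, ng_iso g.2⟩, ?_, key _ h⟩
    have h1 : AH.pj m F (⟨ng g.1, ng_iso g.2⟩ * g⁻¹) = 1 := by
      rw [AH.pj_eq_one_iff]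
      refine ⟨-1, fun v => ?_⟩
      rw [neg_one_smul]
      change ng g.1 (g.1⁻¹ v) = -v
      rw [ng_apply, app_inv]
    rw [map_mul, map_inv, mul_inv_eq_one] at h1
    exact h1

theorem card_psp_le {F : Type} [Field F] [Fintype F] (m : ℕ) :
    Nat.card (PSp m F) ≤ Nat.card F ^ (2 * m ^ 2 + m) := by
  have h1 : Nat.card (PSp m F) ≤ Nat.card (Matrix.symplecticGroup (Fin m) F) :=
    Nat.card_le_card_of_surjective _ (QuotientGroup.mk'_surjective _)
  refine h1.trans ?_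
  rw [LieClassical.SympCount.card_symplecticGroup, ← Nat.card_eq_fintype_card]
  have h2 : ∀ m : ℕ, ∏ i ∈ Finset.range m, (Nat.card F ^ (2 * (i + 1)) - 1) ≤ Nat.card F ^ (m ^ 2 + m) := by
    intro m
    induction m with
    | zero => simp only [_root_.Finset.range_zero, _root_.Nat.card_eq_fintype_card, _root_.Finset.prod_empty, _root_.ne_eq, _root_.OfNat.ofNat_ne_zero, _root_.not_false_eq_true, _root_.zero_pow, _root_.add_zero, _root_.pow_zero, _root_.Std.le_refl]
    | succ m ih =>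
      rw [Finset.prod_range_succ]
      calc _ ≤ Nat.card F ^ (m ^ 2 + m) * Nat.card F ^ (2 * (m + 1)) := Nat.mul_le_mul ih (Nat.sub_le _ _)
        _ = _ := by rw [← pow_add]; congr 1; ring
  calc _ ≤ Nat.card F ^ (m ^ 2) * Nat.card F ^ (m ^ 2 + m) := Nat.mul_le_mul_left _ (h2 m)
    _ = _ := by rw [← pow_add]; congr 1; ring

/-- **The row `PSp_2m(q)`** (`p ∣ k` or `p ∣ l`) -/
theorem kl_psp {F : Type} [Field F] [Fintype F] {m p k l : ℕ} (hm : 2 ≤ m) (hp : p.Prime) [CharP F p] (hk : 2 ≤ k)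
    (hl : 2 ≤ l) (hg : ¬ k.Coprime l) (hd : p ∣ k ∨ p ∣ l)
    (hbig : (max k l) ^ (8 * (max k l) ^ 2) ≤ Nat.card (PSp m F)) : H134.War.KL (PSp m F) k l := by
  have hM : 2 ≤ max k l := hk.trans (le_max_left _ _)
  have hq : 2 ≤ Nat.card F := Finite.one_lt_card
  have he0 : 1 ≤ ee p k l := Nat.ordCompl_pos p (Nat.lcm_ne_zero (by omega) (by omega))
  have he : ee p k l = 1 ∨ (6 ≤ max k l ∧ 2 * ee p k l ≤ (max k l) ^ 2) := by
    rcases Nat.lt_or_ge (max k l) 6 with h | h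
    · exact Or.inl (ee_eq_one hp hk hl hg (by omega) hd)
    · exact Or.inr ⟨h, ee_le (by omega) hg⟩
  have hb := hbig.trans (card_psp_le m)
  refine (ss_psp (p := p) hm he0 (Cfsg.Agent.H140.War.numeric hq hm hM he0 hb he (Or.inl rfl)) ?_).kl'
  intro h2 hev h3
  refine Cfsg.Agent.H140.War.numeric hq hm hM he0 hb he (Or.inr ⟨?_, by obtain ⟨c, hc⟩ := hev; omega, h3⟩)
  by_contra hcon
  have hq2 : Nat.card F = 2 := by omega
  apply h2
  have h4 := FiniteField.cast_card_eq_zero F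
  rw [← Nat.card_eq_fintype_card, hq2] at h4
  exact_mod_cast h4

end Cfsg.Agent.H144.War
end

private theorem dce_fdf6c5880c2b : _root_.True := by
  try have : _root_.True := by simp only [_root_.Cfsg.Agent.H950.War.JB.toE.eq_1]
  exact _root_.True.intro
end
end
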